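import Cfsg.Agent.Lib.EPH.Sq

/-! The order of `T`, and the weak form of Higman's theorem on Suzuki two-groups. -/

set_option autoImplicit false

namespace Cfsg.Agent.EPH

open Finset
open scoped commutatorElement

theorem chi_aux : ∀ x y : ZMod 2, (if x + y = 0 then (1 : ℤ) else -1) =
    (if x = 0 then 1 else -1) * if y = 0 then 1 else -1 := by decide

theorem exists_chi (F : Type*) [Field F] [CharP F 2] :
    ∃ χ : F → ℤ, (∀ a b, χ (a + b) = χ a * χ b) ∧ χ 0 = 1 ∧ χ 1 = -1 := by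
  have := Fact.mk Nat.prime_two
  let := ZMod.algebra F 2
  obtain ⟨f, hf⟩ := Module.Projective.exists_dual_eq_one (ZMod 2) (one_ne_zero (α := F))
  refine ⟨fun a => if f a = 0 then 1 else -1, fun a b => ?_, by simp, by simp [hf]⟩
  simp only [map_add]
  convert chi_aux (f a) (f b)

theorem dvd_sum_inv {T : Type*} [Group T] [Fintype T] (Z : Subgroup T) (g : T → ℤ)
    (hg : ∀ d, ∀ z ∈ Z, g (d * z) = g d) : (Nat.card Z : ℤ) ∣ ∑ d, g d := by
  classical
  have := Fintype.ofFinite (T ⧸ Z)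
  have hb : Function.Bijective fun p : (T ⧸ Z) × Z => p.1.out * p.2.1 := by
    refine (Nat.bijective_iff_injective_and_card _).2 ⟨fun p q e => ?_, by
      rw [Nat.card_prod, ← Subgroup.card_eq_card_quotient_mul_card_subgroup]⟩
    have e1 := congrArg (QuotientGroup.mk (s := Z)) e
    simp only [QuotientGroup.mk_mul_of_mem _ p.2.2, QuotientGroup.mk_mul_of_mem _ q.2.2,
      QuotientGroup.out_eq'] at e1
    simp only [e1, mul_right_inj] at e
    exact Prod.ext e1 (Subtype.ext e)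
  rw [← hb.sum_comp, Fintype.sum_prod_type]
  exact dvd_sum fun c _ => ⟨g c.out, by simp [hg]⟩

theorem numeric {n m : ℕ} {S : ℤ} (hn : 1 ≤ n) (hm : 1 ≤ m)
    (h1 : (2 : ℤ) ^ m + (2 ^ n - 1) * S = (2 ^ n) ^ 2) (h2 : (2 : ℤ) ^ n * 2 ^ m ∣ S ^ 2) :
    m = n ∨ m = n * 2 ∨ m = n * 3 := by
  have h3 : 2 ^ n - 1 ∣ 2 ^ m - 1 := by
    rw [← Int.natCast_dvd_natCast, Nat.cast_sub Nat.one_le_two_pow, Nat.cast_sub Nat.one_le_two_pow]
    exact ⟨2 ^ n + 1 - S, by push_cast; linear_combination h1⟩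
  have h4 := Nat.pow_sub_one_gcd_pow_sub_one 2 n m
  rw [Nat.gcd_eq_left h3] at h4
  have h5 : n = n.gcd m := Nat.pow_right_injective le_rfl (by
    have := Nat.one_le_two_pow (n := n)
    have := Nat.one_le_two_pow (n := n.gcd m)
    simp only; omega)
  obtain ⟨j, rfl⟩ : n ∣ m := h5 ▸ Nat.gcd_dvd_right n m
  rcases j with _ | _ | _ | _ | j
  · omega
  · omega
  · omega
  · omega
  exfalso
  rw [pow_mul] at h1 h2
  obtain ⟨n, rfl⟩ : ∃ n', n = n' + 1 := ⟨n - 1, by omega⟩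
  have h6 : (2 : ℤ) ∣ 2 ^ (n + 1) := dvd_pow_self 2 n.succ_ne_zero
  have h7 : (2 : ℤ) ^ (n + 1) ≠ 0 := by positivity
  generalize (2 : ℤ) ^ (n + 1) = q at *
  obtain ⟨c, hc⟩ := h2
  have h8 : (1 - q ^ (j + 2)) ^ 2 = q * ((q - 1) ^ 2 * q ^ j * c) := by
    refine mul_left_cancel₀ (pow_ne_zero 4 h7) ?_
    linear_combination (q - 1) ^ 2 * hc - ((q - 1) * S + q ^ 2 - q ^ (j + 4)) * h1
  have h9 : (2 : ℤ) ∣ 1 - q ^ (j + 2) := Int.prime_two.dvd_of_dvd_pow (h8 ▸ h6.mul_right _)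
  have := dvd_add h9 (h6.trans (dvd_pow_self q (j + 1).succ_ne_zero))
  rw [sub_add_cancel] at this
  omega

variable {T : Type*} [Group T] {F : Type*} [Field F] {k : MulAut T} {e : T → F} {l : F}

theorem Hyp.sq_mul (h : Hyp k F) (he : Crd k h.Z ⊥ e l) (hsq : ∀ x : T, x * x ∈ h.Z) (x y : T) :
    e (x * y * (x * y)) = e (x * x) + e ⁅x⁻¹, y⁆ + e (y * y) := by
  have a := comm_mem_of_sq hsq x⁻¹ y
  rw [← he.add _ (hsq x) _ a, ← he.add _ (mul_mem (hsq x) a) _ (hsq y), commutatorElement_def]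
  congr 1; group

theorem Hyp.cm_add (h : Hyp k F) (he : Crd k h.Z ⊥ e l) (hsq : ∀ x : T, x * x ∈ h.Z) (x y d : T) :
    e ⁅x * y, d⁆ = e ⁅x, d⁆ + e ⁅y, d⁆ := by
  rw [cm_mul_left, h.conj_eq (comm_mem_of_sq hsq y d),
    he.add _ (comm_mem_of_sq hsq y d) _ (comm_mem_of_sq hsq x d), add_comm]

theorem Hyp.card_cases [Finite T] [Finite F] [CharP F 2] (h : Hyp k F) (he : Crd k h.Z ⊥ e l)
    (hsq : ∀ x : T, x * x ∈ h.Z) :
    Nat.card T = Nat.card F ∨ Nat.card T = Nat.card F ^ 2 ∨ Nat.card T = Nat.card F ^ 3 := by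
  classical
  have := Fact.mk Nat.prime_two
  have := Fintype.ofFinite T
  have := Fintype.ofFinite F
  obtain ⟨χ, c1, c0, c2⟩ := exists_chi F
  have c3 : ∀ a, χ a * χ a = 1 := fun a => by rw [← c1, add_self, c0]
  have s1 : ∀ a : F, a ≠ 0 → ∑ x : T, χ (a * e (x * x)) = ∑ x : T, χ (e (x * x)) := fun a ha => by
    obtain ⟨i, rfl⟩ := gen h.prime he.ne0 he.ne1 ha
    rw [← (k ^ i).toEquiv.sum_comp fun x => χ (e (x * x))]
    exact sum_congr rfl fun x _ => by rw [← he.pow i (hsq x), map_mul]; rfl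
  have s2 : ∀ b : F, ∑ a : F, χ (a * b) = if b = 0 then (Nat.card F : ℤ) else 0 := fun b => by
    split_ifs with hb
    · simp [hb, c0]
    · rw [← Equiv.sum_comp Multiplicative.toAdd]
      let f : Multiplicative F →* ℤ := ⟨⟨fun a => χ (a.toAdd * b), by simp [c0]⟩, fun a a' => by
        simp [add_mul, c1]⟩
      exact sum_hom_units_eq_zero f fun e1 => by
        have : χ (b⁻¹ * b) = 1 := DFunLike.congr_fun e1 (Multiplicative.ofAdd b⁻¹)
        rw [inv_mul_cancel₀ hb, c2] at this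
        omega
  have s3 : (Nat.card T : ℤ) + (Nat.card F - 1) * ∑ x : T, χ (e (x * x)) = Nat.card F ^ 2 := by
    have e1 : ∑ x : T, ∑ a : F, χ (a * e (x * x)) = Nat.card F ^ 2 := by
      simp only [s2]
      rw [← sum_filter, sum_const, nsmul_eq_mul, pow_two]
      congr 2
      rw [← h.card, Nat.card_eq_fintype_card, Fintype.card_subtype]
      congr 1
      ext x
      simp only [mem_filter, he.ker _ (hsq x), Subgroup.mem_bot]
    rw [← e1, sum_comm, ← add_sum_erase _ _ (mem_univ (0 : F)),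
      sum_congr rfl fun a ha => s1 a (ne_of_mem_erase ha), sum_const, card_erase_of_mem (mem_univ _)]
    simp [c0, Nat.cast_sub (Fintype.card_pos (α := F))]
  let f : T → T →* ℤ := fun d => ⟨⟨fun x => χ (e ⁅x, d⁆), by simp [he.one, c0]⟩, fun x y => by
    simp only [h.cm_add he hsq, c1]⟩
  have s4 : (∑ x : T, χ (e (x * x))) ^ 2 =
      (∑ d : T, χ (e (d * d)) * if f d = 1 then 1 else 0) * Nat.card T := by
    rw [pow_two, sum_mul, sum_mul]
    have e1 : ∀ x : T, χ (e (x * x)) * ∑ y : T, χ (e (y * y)) =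
        ∑ d : T, χ (e (d * d)) * f d x⁻¹ := fun x => by
      rw [← Equiv.sum_comp (Equiv.mulLeft x), mul_sum]
      refine sum_congr rfl fun d _ => ?_
      rw [Equiv.coe_mulLeft, h.sq_mul he hsq, c1, c1, ← mul_assoc, ← mul_assoc, c3, one_mul, mul_comm]
      rfl
    simp only [e1]
    rw [sum_comm]
    refine sum_congr rfl fun d _ => ?_
    have e2 : ∑ x : T, f d x⁻¹ = ∑ x : T, f d x := Equiv.sum_comp (Equiv.inv T) (f d)
    rw [← mul_sum, mul_assoc, e2]
    split_ifs with hd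
    · simp [hd]
    · rw [sum_hom_units_eq_zero _ hd, zero_mul]
  have s5 := dvd_sum_inv h.Z (fun d => χ (e (d * d)) * if f d = 1 then 1 else 0) fun d z hz => by
    have e1 : f (d * z) = f d := MonoidHom.ext fun x => by
      change χ (e _) = χ (e _)
      rw [cm_mul_right, commutatorElement_eq_one_iff_commute.2 (h.cen z hz x).symm]; simp
    rw [e1, (h.cen z hz d).mul_mul_mul_comm, hz, mul_one]
  obtain ⟨m, hm⟩ := h.two.exists_card_eq
  obtain ⟨n, hn⟩ := (h.two.to_subgroup h.Z).exists_card_eq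
  have a1 := Subgroup.card_le_card_group h.Z
  have a2 := Finite.one_lt_card (α := F)
  rw [h.cardZ] at hn s5 a1
  rw [hm, hn] at s3 a1 ⊢
  rw [hm] at s4
  rw [hn] at s5 a2
  have a3 : 1 ≤ n := by
    by_contra e; rw [show n = 0 by omega] at a2; omega
  have a4 := (Nat.pow_le_pow_iff_right one_lt_two).1 a1
  push_cast at s3 s4 s5
  rcases numeric a3 (a3.trans a4) s3 (s4 ▸ mul_dvd_mul_right s5 _) with rfl | rfl | rfl <;>
    simp [pow_mul]

/-- weak form of Higman's theorem -/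
theorem Hyp.higman [Finite T] [Finite F] [CharP F 2] (h : Hyp k F) :
    IsMulCommutative T ∨ ((∀ x : T, x ^ 4 = 1) ∧
      (Nat.card T = Nat.card F ^ 2 ∨ Nat.card T = Nat.card F ^ 3)) := by
  obtain ⟨e, l, he⟩ := h.exists_crdZ
  rcases h.sq_or_comm he with hc | hsq
  · exact Or.inl ⟨⟨hc⟩⟩
  rcases h.card_cases he hsq with e1 | e1
  · have := Subgroup.eq_top_of_card_eq h.Z (h.cardZ.trans e1.symm)
    exact Or.inl ⟨⟨fun x y => h.cen x (show x ∈ h.Z from this ▸ trivial) y⟩⟩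
  · exact Or.inr ⟨fun x => by rw [← hsq x, show 4 = 2 + 2 from rfl, pow_add, pow_two], e1⟩

theorem Hyp.of {T : Type*} [Group T] (hT : IsPGroup 2 T) (k : MulAut T) {q : ℕ}
    (hp : (q - 1).Prime) (hk : k ^ (q - 1) = 1) (fpf : ∀ x, k x = x → x = 1)
    (hc : ∀ t : T, t * t = 1 → t ∈ Subgroup.center T) (hZ : Nat.card {t : T // t * t = 1} = q)
    (F : Type*) [Field F] (hF : Nat.card F = q) : Hyp k F :=
  ⟨hT, hF ▸ hp, hF ▸ hk, fpf, fun t ht g => (Subgroup.mem_center_iff.1 (hc t ht) g).symm, hF ▸ hZ⟩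

theorem higman {T : Type*} [Group T] [Finite T] (hT : IsPGroup 2 T) (k : MulAut T) {n : ℕ}
    (hn : 2 ≤ n) (hp : (2 ^ n - 1).Prime) (hk : k ^ (2 ^ n - 1) = 1) (fpf : ∀ x, k x = x → x = 1)
    (hc : ∀ t : T, t * t = 1 → t ∈ Subgroup.center T)
    (hZ : Nat.card {t : T // t * t = 1} = 2 ^ n) :
    IsMulCommutative T ∨ ((∀ x : T, x ^ 4 = 1) ∧
      (Nat.card T = (2 ^ n) ^ 2 ∨ Nat.card T = (2 ^ n) ^ 3)) := by
  have := Fact.mk Nat.prime_two
  have hF := GaloisField.card 2 n (by omega)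
  exact hF ▸ (Hyp.of hT k hp hk fpf hc hZ _ hF).higman

end Cfsg.Agent.EPH
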