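import Cfsg.Agent.Lib.EPH.Crd

/-! Abelian normal invariant subgroups and their covers. -/

set_option autoImplicit false

namespace Cfsg.Agent.EPH

open scoped commutatorElement

variable {T : Type*} [Group T] {F : Type*} [Field F]

theorem cm_mul_left (x y u : T) : ⁅x * y, u⁆ = x * ⁅y, u⁆ * x⁻¹ * ⁅x, u⁆ := by
  simp only [commutatorElement_def]; group

theorem cm_mul_right (x u v : T) : ⁅x, u * v⁆ = ⁅x, u⁆ * (u * ⁅x, v⁆ * u⁻¹) := by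
  simp only [commutatorElement_def]; group

theorem desc {a : T} (h : ∀ m, a ^ 2 ^ (m + 2) = 1 → a ^ 2 ^ (m + 1) = 1) {m : ℕ}
    (hm : a ^ 2 ^ (m + 1) = 1) : a * a = 1 := by
  induction m with
  | zero => rwa [← pow_two]
  | succ m ih => exact ih (h m hm)

/-- abelian normal invariant subgroup -/
structure Ab (k : MulAut T) (A : Subgroup T) : Prop where
  inv : Inv k A
  nor : A.Normal
  comm : ∀ x ∈ A, ∀ y ∈ A, Commute x y

namespace Ab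

variable {k : MulAut T} {A : Subgroup T} (hA : Ab k A)
include hA

theorem cm_mem {a : T} (ha : a ∈ A) (u : T) : ⁅a, u⁆ ∈ A := by
  have := mul_mem ha (hA.nor.conj_mem _ (inv_mem ha) u)
  simpa only [commutatorElement_def, mul_assoc] using this

theorem cm_mul {a b : T} (ha : a ∈ A) (hb : b ∈ A) (u : T) : ⁅a * b, u⁆ = ⁅a, u⁆ * ⁅b, u⁆ := by
  rw [cm_mul_left, (hA.comm a ha _ (hA.cm_mem hb u)).eq, mul_inv_cancel_right,
    (hA.comm _ (hA.cm_mem hb u) _ (hA.cm_mem ha u)).eq]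

theorem cm_pow {a : T} (ha : a ∈ A) (u : T) (n : ℕ) : ⁅a, u⁆ ^ n = ⁅a ^ n, u⁆ := by
  induction n with
  | zero => simp
  | succ n ih => rw [pow_succ, pow_succ, ih, hA.cm_mul (pow_mem ha n) ha]

/-- the elements of order dividing `2 ^ j` -/
def Om (j : ℕ) : Subgroup T where
  carrier := {x | x ∈ A ∧ x ^ 2 ^ j = 1}
  mul_mem' := fun {x y} hx hy => ⟨mul_mem hx.1 hy.1, by
    rw [(hA.comm x hx.1 y hy.1).mul_pow, hx.2, hy.2, one_mul]⟩
  one_mem' := ⟨one_mem _, one_pow _⟩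
  inv_mem' := fun {x} hx => ⟨inv_mem hx.1, by rw [inv_pow, hx.2, inv_one]⟩

theorem mem_Om {j : ℕ} {x : T} : x ∈ hA.Om j ↔ x ∈ A ∧ x ^ 2 ^ j = 1 := Iff.rfl

theorem om (j : ℕ) : Ab k (hA.Om j) :=
  ⟨fun x hx => ⟨hA.inv x hx.1, by rw [← map_pow, hx.2, map_one]⟩,
    ⟨fun x hx g => ⟨hA.nor.conj_mem x hx.1 g, by rw [conj_pow, hx.2, mul_one, mul_inv_cancel]⟩⟩,
    fun x hx y hy => hA.comm x hx.1 y hy.1⟩

end Ab

theorem sq_pow {x : T} {j : ℕ} (h : x ^ 2 ^ (j + 1) = 1) : x ^ 2 ^ j * x ^ 2 ^ j = 1 := by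
  rwa [← pow_two, ← pow_mul, ← pow_succ]

namespace Hyp

variable {k : MulAut T} (h : Hyp k F) {e : T → F} {l : F}
include h

theorem conj_eq {t : T} (ht : t * t = 1) (g : T) : g * t * g⁻¹ = t := by
  rw [← (h.cen t ht g).eq, mul_inv_cancel_right]

theorem injZ [CharP F 2] (he : Crd k h.Z ⊥ e l) {x y : T} (hx : x * x = 1) (hy : y * y = 1)
    (e1 : e x = e y) : x = y :=
  inv_mul_eq_one.1 (Subgroup.mem_bot.1 ((he.eq_iff hx hy).1 e1))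

theorem zeroZ (he : Crd k h.Z ⊥ e l) {x : T} (hx : x * x = 1) (e1 : e x = 0) : x = 1 :=
  Subgroup.mem_bot.1 ((he.ker x hx).1 e1)

variable [Finite T] [Finite F]

theorem onto {A B : Subgroup T} (hc : Nat.card A = Nat.card F * Nat.card B) (f : T → T)
    (h1 : ∀ x ∈ A, ∀ y ∈ A, f (x * y) = f x * f y) (h2 : ∀ x ∈ A, f x ∈ B)
    (h3 : ∀ x ∈ A, f x = 1 → x * x = 1) {y : T} (hy : y ∈ B) : ∃ x ∈ A, f x = y := by
  let g : A →* B := MonoidHom.mk' (fun x => ⟨f x, h2 _ x.2⟩) fun x y =>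
    Subtype.ext (h1 _ x.2 _ y.2)
  have a1 : Nat.card g.ker ≤ Nat.card F := by
    rw [← h.card]
    exact Nat.card_le_card_of_injective
      (fun x => ⟨x.1.1, h3 _ x.1.2 (congrArg Subtype.val x.2)⟩)
      fun x y e => Subtype.ext (Subtype.ext (by simpa using e))
  have a2 := g.ker.index_mul_card
  rw [Subgroup.index_ker, hc] at a2
  have a3 : g.range = ⊤ := by
    refine Subgroup.eq_top_of_le_card _ ?_
    refine Nat.le_of_mul_le_mul_left ?_ (Nat.card_pos (α := F))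
    rw [← a2, mul_comm]
    exact Nat.mul_le_mul_right _ a1
  obtain ⟨x, hx⟩ := MonoidHom.range_eq_top.1 a3 ⟨y, hy⟩
  exact ⟨x, x.2, congrArg Subtype.val hx⟩

theorem crd_om (he : Crd k h.Z ⊥ e l) {A : Subgroup T} (hA : Ab k A) {j : ℕ}
    (hj : ∀ x ∈ A, x ^ 2 ^ (j + 1) = 1) {x : T} (hx : x ∈ A) (hx' : x ^ 2 ^ j ≠ 1) :
    Crd k A (hA.Om j) (fun x => e (x ^ 2 ^ j)) l := by
  have a1 : ∀ x ∈ A, e (k x ^ 2 ^ j) = l * e (x ^ 2 ^ j) := fun x hx => by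
    rw [← map_pow, he.act _ (sq_pow (hj x hx))]
  exact ⟨hA.inv, fun x hx y hy => by
      rw [(hA.comm x hx y hy).mul_pow, he.add _ (sq_pow (hj x hx)) _ (sq_pow (hj y hy))],
    fun x hx => ⟨fun e1 => ⟨hx, h.zeroZ he (sq_pow (hj x hx)) e1⟩, fun e1 => by rw [e1.2, he.one]⟩,
    surj_of_ne h.prime hA.inv he.ne0 he.ne1 (by rw [one_pow, he.one]) a1 hx
      (fun e1 => hx' (h.zeroZ he (sq_pow (hj x hx)) e1)), a1, he.ne0, he.ne1⟩

variable [CharP F 2]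

theorem Z_le (he : Crd k h.Z ⊥ e l) {A : Subgroup T} (hA : Ab k A) {j : ℕ}
    (hj : ∀ x ∈ A, x ^ 2 ^ (j + 1) = 1) {x : T} (hx : x ∈ A) (hx' : x ^ 2 ^ j ≠ 1) {z : T}
    (hz : z * z = 1) : z ∈ A := by
  obtain ⟨y, hy, e1⟩ := (h.crd_om he hA hj hx hx').surj (e z)
  rw [← h.injZ he (sq_pow (hj y hy)) hz e1]
  exact pow_mem hy _

/-- the pairing of the elements of order four of `A` with a cover -/
theorem eta (he : Crd k h.Z ⊥ e l) {A C : Subgroup T} (hA : Ab k A) {x : T} (hx : x ∈ A)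
    (hx4 : x ^ 2 ^ 2 = 1) (hx2 : x ^ 2 ^ 1 ≠ 1) {c : T → F} {μ : F} (hC : Cov k A C c μ) :
    (∀ b ∈ A, b ^ 2 ^ 2 = 1 → ∀ u ∈ C, Commute b u) ∨ ∃ (κ : F) (φ ψ : F ≃+* F), κ ≠ 0 ∧ φ ≠ 1 ∧
      ∀ b ∈ A, b ^ 2 ^ 2 = 1 → ∀ u ∈ C, e ⁅b, u⁆ = κ * φ (e (b ^ 2 ^ 1)) * ψ (c u) := by
  have hB := h.crd_om he (hA.om 2) (j := 1) (fun x hx => hx.2) ⟨hx, hx4⟩ hx2
  have a1 : ∀ b ∈ hA.Om 2, ∀ u : T, ⁅b, u⁆ * ⁅b, u⁆ = 1 := fun b hb u => by
    rw [← hA.cm_mul hb.1 hb.1, commutatorElement_eq_one_iff_commute]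
    refine h.cen _ ?_ u
    rw [← hb.2, show 2 ^ 2 = 2 + 2 from rfl, pow_add, pow_two]
  obtain ⟨β, b1, b2, b3, b4⟩ := pairing hB hC.crd (fun b u => e ⁅b, u⁆) (ν := l)
    (fun x hx x' hx' y _ => by rw [hA.cm_mul hx.1 hx'.1, he.add _ (a1 x hx y) _ (a1 x' hx' y)])
    (fun x hx y _ y' _ => by
      rw [cm_mul_right, h.conj_eq (a1 x hx y'), he.add _ (a1 x hx y) _ (a1 x hx y')])
    (fun x _ hx y _ => by
      rw [commutatorElement_eq_one_iff_commute.2 (h.cen x (sq_pow (j := 0) hx.2 ▸ by simp) y), he.one])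
    (fun x hx y _ hy => by
      rw [commutatorElement_eq_one_iff_commute.2 (hA.comm x hx.1 y hy), he.one])
    (fun x hx y _ => by rw [← map_commutatorElement, he.act _ (a1 x hx y)])
  rcases pair_mono h.prime β b1 b2 he.ne0 he.ne1 hC.crd.ne0 hC.crd.ne1 b3 with
    e1 | ⟨κ, φ, ψ, e1, e2, e3⟩
  · exact Or.inl fun b hb hb' u hu => commutatorElement_eq_one_iff_commute.1
      (h.zeroZ he (a1 b ⟨hb, hb'⟩ u) ((b4 b ⟨hb, hb'⟩ u hu).trans (e1 _ _)))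
  · exact Or.inr ⟨κ, φ, ψ, e1, e2, fun b hb hb' u hu => (b4 b ⟨hb, hb'⟩ u hu).trans (e3 _ _)⟩

/-- a cover centralising the elements of order four is abelian -/
theorem cov_comm (he : Crd k h.Z ⊥ e l) {A C : Subgroup T} (hA : Ab k A) {i : ℕ}
    (hj : ∀ x ∈ A, x ^ 2 ^ (i + 2) = 1) {x : T} (hx : x ∈ A) (hx' : x ^ 2 ^ (i + 1) ≠ 1)
    {c : T → F} {μ : F} (hC : Cov k A C c μ)
    (hB : ∀ b ∈ A, b ^ 2 ^ 2 = 1 → ∀ u ∈ C, Commute b u) : ∀ u ∈ C, ∀ v ∈ C, Commute u v := by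
  have hE := h.crd_om he hA (j := i + 1) hj hx hx'
  have hc := hE.card fun _ hx => hx.1
  have a1 : ∀ u ∈ C, (u * u) ^ 2 ^ (i + 1) = 1 → u ∈ A := fun u hu hu' => by
    have n1 : ∀ a ∈ A, u⁻¹ * a * u ∈ A := fun a ha => hA.nor.conj_mem' a ha u
    obtain ⟨a, ha, e1⟩ := h.onto hc (fun a => u⁻¹ * a * u * a) (fun x hx y hy => by
        rw [mul_assoc _ x, ← mul_assoc x, (hA.comm x hx _ (n1 y hy)).eq]; group)
      (fun a ha => ⟨mul_mem (n1 a ha) ha, by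
        have := h.conj_eq (sq_pow (hj a ha)) u⁻¹
        rw [← conj_pow, inv_inv] at this
        rw [(hA.comm _ (n1 a ha) a ha).mul_pow, this, sq_pow (hj a ha)]⟩)
      (fun a ha e1 => desc (fun m hm => by
        have e2 := congrArg (· ^ 2 ^ m) e1
        have e3 := hB _ (pow_mem ha (2 ^ m)) (by rwa [← pow_mul, ← pow_add]) u hu
        have e4 := conj_pow (a := u⁻¹) (b := a) (i := 2 ^ m)
        rw [inv_inv, mul_assoc _ (a ^ 2 ^ m), e3.eq, inv_mul_cancel_left] at e4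
        simp only [(hA.comm _ (n1 a ha) a ha).mul_pow, e4, one_pow] at e2
        rwa [pow_succ, pow_mul, pow_two]) (hj a ha))
      (inv_mem (⟨hC.crd.sq hu, hu'⟩ : u * u ∈ hA.Om (i + 1)))
    have e2 : u * a * (u * a) = 1 := by
      rw [← mul_inv_cancel (u * u), ← e1]; group
    exact (mul_mem_cancel_right ha).1 (h.Z_le he hA hj hx hx' e2)
  have a0 : ∀ a ∈ A, ∀ w ∈ C, ⁅a, w⁆ ^ 2 ^ i = 1 := fun a ha w hw => by
    rw [hA.cm_pow ha, commutatorElement_eq_one_iff_commute]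
    exact hB _ (pow_mem ha _) (by rw [← pow_mul, ← pow_add]; exact hj a ha) w hw
  have a2 : ∀ u ∈ C, ∀ v ∈ C, ⁅u, v⁆ ^ 2 ^ (i + 1) = 1 := fun u hu v hv => by
    have d := hC.cen v hv u
    have e1 : ⁅u, v⁆ ^ 2 = ⁅⁅u, v⁆, u⁆ * ⁅u * u, v⁆ := by
      rw [cm_mul_left]; generalize ⁅u, v⁆ = d; rw [commutatorElement_def, pow_two]; group
    rw [pow_succ', pow_mul, e1, (hA.comm _ (hA.cm_mem d u) _ (hC.cen v hv _)).mul_pow, a0 _ d u hu,
      a0 _ (hC.crd.sq hu) v hv, one_mul]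
  have a3' : ∀ u ∈ C, e ((k u * k u) ^ 2 ^ (i + 1)) = l * e ((u * u) ^ 2 ^ (i + 1)) :=
    fun u hu => by rw [← map_mul]; exact hE.act _ (hC.crd.sq hu)
  have a3'' : ∀ u ∈ C, e ((u * u) ^ 2 ^ (i + 1)) = 0 ↔ u ∈ A := fun u hu =>
    ⟨fun e1 => a1 u hu ((hE.ker _ (hC.crd.sq hu)).1 e1).2, fun e1 => by
      rw [← pow_two, ← pow_mul, ← pow_succ', hj u e1, he.one]⟩
  have a3 : Crd k C A (fun u => e ((u * u) ^ 2 ^ (i + 1))) l := by
    obtain ⟨y, hy, hy'⟩ := SetLike.not_le_iff_exists.1 hC.crd.not_le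
    refine ⟨hC.crd.inv, fun u hu v hv => ?_, a3'', surj_of_ne h.prime hC.crd.inv he.ne0 he.ne1
      (by simp [he.one]) a3' hy (mt (a3'' y hy).1 hy'), a3', he.ne0, he.ne1⟩
    have e1 : u * v * (u * v) = u * u * (⁅u⁻¹, v⁆ * (v * v)) := by
      rw [commutatorElement_def]; group
    have d := hC.cen v hv u⁻¹
    have e2 := hE.add _ (hC.crd.sq hu) _ (mul_mem d (hC.crd.sq hv))
    have e3 := hE.add _ d _ (hC.crd.sq hv)
    simp only [a2 _ (inv_mem hu) v hv, he.one, zero_add] at e2 e3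
    rw [e1, e2, e3]
  have a4 : ∀ a ∈ A, ∃ u ∈ C, ∃ w ∈ C, a = u * u * (w * w) := fun a ha => by
    obtain ⟨u, hu, e1⟩ := a3.surj (e (a ^ 2 ^ (i + 1)))
    obtain ⟨w, hw, e2⟩ := h.onto hc (fun a => a * a)
      (fun x hx y hy => (hA.comm y hy x hx).mul_mul_mul_comm x y)
      (fun a ha => ⟨mul_mem ha ha, by rw [← pow_two, ← pow_mul, ← pow_succ', hj a ha]⟩)
      (fun _ _ e => e) ((hE.eq_iff (hC.crd.sq hu) ha).1 e1)
    exact ⟨u, hu, w, hC.le hw, by rw [e2, mul_inv_cancel_left]⟩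
  have a5 : ∀ m, (∀ u ∈ C, ∀ v ∈ C, ⁅u, v⁆ ^ 2 ^ (m + 1) = 1) →
      ∀ u ∈ C, ∀ v ∈ C, ⁅u, v⁆ ^ 2 ^ m = 1 := fun m hm => by
    have aL : ∀ x ∈ C, ∀ x' ∈ C, ∀ y ∈ C, e (⁅x * x', y⁆ ^ 2 ^ m) =
        e (⁅x, y⁆ ^ 2 ^ m) + e (⁅x', y⁆ ^ 2 ^ m) := fun x hx x' hx' y hy => by
      rw [cm_mul_left, (hA.comm _ (hA.nor.conj_mem _ (hC.cen y hy x') x) _ (hC.cen y hy x)).mul_pow,
        conj_pow, h.conj_eq (sq_pow (hm x' hx' y hy)),
        he.add _ (sq_pow (hm x' hx' y hy)) _ (sq_pow (hm x hx y hy)), add_comm]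
    have sy : ∀ x ∈ C, ∀ y ∈ C, e (⁅x, y⁆ ^ 2 ^ m) = e (⁅y, x⁆ ^ 2 ^ m) := fun x hx y hy => by
      rw [← commutatorElement_inv, inv_pow, he.inv' (sq_pow (hm y hy x hx))]
    have zL : ∀ x ∈ C, x ∈ A → ∀ y ∈ C, e (⁅x, y⁆ ^ 2 ^ m) = 0 := fun x _ hx y hy => by
      obtain ⟨u, hu, w, hw, rfl⟩ := a4 x hx
      rw [aL _ (mul_mem hu hu) _ (mul_mem hw hw) y hy, aL u hu u hu y hy, aL w hw w hw y hy,
        add_self, add_self, add_zero]
    obtain ⟨β, b1, b2, b3, b4⟩ := pairing a3 a3 (fun u v => e (⁅u, v⁆ ^ 2 ^ m)) (ν := l) aL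
      (fun x hx y hy y' hy' => by
        rw [sy x hx _ (mul_mem hy hy'), aL y hy y' hy' x hx, sy x hx y hy, sy x hx y' hy'])
      zL (fun x hx y hy hy' => by rw [sy x hx y hy, zL y hy hy' x hx])
      (fun x hx y hy => by
        rw [← map_commutatorElement, ← map_pow, he.act _ (sq_pow (hm x hx y hy))])
    rcases pair_mono h.prime β b1 b2 he.ne0 he.ne1 he.ne0 he.ne1 b3 with
      e1 | ⟨κ, φ, ψ, e1, -, e3⟩
    · exact fun u hu v hv => h.zeroZ he (sq_pow (hm u hu v hv)) ((b4 u hu v hv).trans (e1 _ _))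
    · obtain ⟨u, hu, e4⟩ := a3.surj 1
      have := b4 u hu u hu
      simp only [e4, e3, commutatorElement_self, one_pow, he.one, map_one, mul_one] at this
      exact absurd this.symm e1
  have a6 : ∀ m, (∀ u ∈ C, ∀ v ∈ C, ⁅u, v⁆ ^ 2 ^ m = 1) → ∀ u ∈ C, ∀ v ∈ C, Commute u v := by
    intro m
    induction m with
    | zero => exact fun hm u hu v hv => commutatorElement_eq_one_iff_commute.1 (by simpa using hm u hu v hv)
    | succ m ih => exact fun hm => ih (a5 m hm)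
  exact a6 _ a2

end Hyp

end Cfsg.Agent.EPH
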