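import Cfsg.Agent.Lib.EPH.Cnt

/-! Coordinates on a Suzuki two-group of order `q ^ 2`. -/

set_option autoImplicit false

namespace Cfsg.Agent.EPH

open Finset
open scoped commutatorElement

variable {T : Type*} [Group T] {F : Type*} [Field F] {k : MulAut T}

theorem Crd.scale {A B : Subgroup T} {e : T → F} {μ : F} (h : Crd k A B e μ) (φ : F ≃+* F) {r : F}
    (hr : r ≠ 0) : Crd k A B (fun x => r * φ (e x)) (φ μ) :=
  ⟨h.inv, fun x hx y hy => by rw [h.add x hx y hy, map_add, mul_add],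
    fun x hx => by rw [mul_eq_zero, or_iff_right hr, map_eq_zero, h.ker x hx],
    fun a => by
      obtain ⟨x, hx, e1⟩ := h.surj (φ.symm (r⁻¹ * a))
      exact ⟨x, hx, by rw [e1, φ.apply_symm_apply, mul_inv_cancel_left₀ hr]⟩,
    fun x hx => by rw [h.act x hx, map_mul, mul_left_comm], (map_ne_zero φ).2 h.ne0,
    fun e1 => h.ne1 (φ.injective (e1.trans (map_one φ).symm))⟩

variable [Finite T] [Finite F] [CharP F 2]

theorem Hyp.exists_quad (h : Hyp k F) (hT : Nat.card T = Nat.card F ^ 2)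
    (hna : ¬ IsMulCommutative T) : ∃ (θ : F ≃+* F) (l : F) (c e : T → F), Crd k ⊤ h.Z c l ∧
      Crd k h.Z ⊥ e (l * θ l) ∧ ∀ x, e (x * x) = c x * θ (c x) := by
  obtain ⟨e, ν, he⟩ := h.exists_crdZ
  have hsq := (h.sq_or_comm he).resolve_left fun hc => hna ⟨⟨hc⟩⟩
  obtain ⟨M, c, μ, a1, -, -, hc⟩ := h.exists_crd (A := ⊤) (fun _ _ => trivial) h.invZ le_top
    fun e1 => hna ⟨⟨fun x y => h.cen x (e1 trivial) y⟩⟩
  obtain rfl : h.Z = M := Subgroup.eq_of_le_of_card_ge a1 (by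
    have := hc.card le_top
    rw [Subgroup.card_top, hT, pow_two] at this
    rw [h.cardZ, Nat.eq_of_mul_eq_mul_left Nat.card_pos this])
  have sy : ∀ x y : T, e ⁅x, y⁆ = e ⁅y, x⁆ := fun x y => by
    rw [← commutatorElement_inv, he.inv' (comm_mem_of_sq hsq y x)]
  have zL : ∀ x ∈ h.Z, ∀ y : T, e ⁅x, y⁆ = 0 := fun x hx y => by
    rw [commutatorElement_eq_one_iff_commute.2 (h.cen x hx y), he.one]
  obtain ⟨β, b1, b2, b3, b4⟩ := pairing hc hc (fun u v => e ⁅u, v⁆) (ν := ν)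
    (fun x _ x' _ y _ => h.cm_add he hsq x x' y)
    (fun x _ y _ y' _ => by rw [sy, h.cm_add he hsq, sy y, sy y']) (fun x _ hx y _ => zL x hx y)
    (fun x _ y _ hy => by rw [sy, zL y hy])
    (fun x _ y _ => by rw [← map_commutatorElement, he.act _ (comm_mem_of_sq hsq x y)])
  obtain ⟨φ, ψ, e1⟩ := (pair_wt h.prime β b1 b2 hc.ne0 hc.ne0 hc.ne1 b3).resolve_left fun e1 =>
    hna ⟨⟨fun x y => commutatorElement_eq_one_iff_commute.1
      (h.zeroZ he (comm_mem_of_sq hsq x y) ((b4 x trivial y trivial).trans (e1 _ _)))⟩⟩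
  obtain ⟨u, -, hu⟩ := hc.surj 1
  have a2 : e (u * u) ≠ 0 := fun e2 =>
    one_ne_zero (hu.symm.trans ((hc.ker u trivial).2 (h.zeroZ he (hsq u) e2)))
  have h1 := he.scale (RingEquiv.refl F) (inv_ne_zero a2)
  have h2 := hc.scale φ one_ne_zero
  refine ⟨φ.symm.trans ψ, φ μ, _, _, h2, by simpa [e1] using h1, fun x => ?_⟩
  simp only [one_mul, RingEquiv.trans_apply, RingEquiv.symm_apply_apply]
  rw [inv_mul_eq_iff_eq_mul₀ a2]
  by_cases hx : c x = 0
  · rw [hx, map_zero, zero_mul, mul_zero, (hc.ker x trivial).1 hx, he.one]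
  obtain ⟨i, hi⟩ := gen h.prime hc.ne0 hc.ne1 hx
  have a3 := (hc.eq_iff (x := (k ^ i) u) (y := x) trivial trivial).1
    (by rw [hc.pow i trivial, hu, hi, mul_one])
  rw [hi, map_pow, map_pow, ← mul_pow, e1, mul_comm, ← he.pow i (hsq u), map_mul,
    ← mul_inv_cancel_left ((k ^ i) u) x, (h.cen _ a3 _).mul_mul_mul_comm, a3, mul_one]

theorem Hyp.exists_lift (h : Hyp k F) {θ : F ≃+* F} {l ν : F} {c e : T → F} (hc : Crd k ⊤ h.Z c l)
    (he : Crd k h.Z ⊥ e ν) (hQ : ∀ x, e (x * x) = c x * θ (c x)) :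
    ∃ b : T → F, (∀ x y, b (x * y) = b x + b y + c x * θ (c y)) ∧ ∀ z ∈ h.Z, b z = e z := by
  have := Fact.mk Nat.prime_two
  choose ζ hζ hζ' using he.surj
  have hsq : ∀ x : T, x * x ∈ h.Z := fun x => hc.sq trivial
  have z1 : ∀ a b, ζ (a + b) = ζ a * ζ b := fun a b =>
    h.injZ he (hζ _) (mul_mem (hζ a) (hζ b)) (by rw [he.add _ (hζ a) _ (hζ b), hζ', hζ', hζ'])
  have z2 : ∀ z ∈ h.Z, ζ (e z) = z := fun z hz => h.injZ he (hζ _) hz (hζ' _)
  have z0 : ζ 0 = 1 := by rw [← he.one, z2 _ (one_mem _)]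
  have c1 : ∀ x y, c (x * y) = c x + c y := fun x y => hc.add x trivial y trivial
  have c2 : ∀ a, c (ζ a) = 0 := fun a => (hc.ker _ trivial).2 (hζ a)
  let _ : Add T := ⟨fun x y => x * y * ζ (c x * θ (c y))⟩
  let _ : Neg T := ⟨fun x => x⟩
  let _ : Zero T := ⟨1⟩
  have ad : ∀ x y : T, x + y = x * y * ζ (c x * θ (c y)) := fun _ _ => rfl
  have as : ∀ x : T, x + x = 0 := fun x => by rw [ad, ← hQ, z2 _ (hsq x)]; exact hsq x
  let G : AddGroup T := AddGroup.ofLeftAxioms (fun x y z => by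
      simp only [ad, c1, c2, add_zero, add_mul, map_add, mul_add, z1, mul_assoc]
      congr 2
      rw [← mul_assoc, (h.cen _ (hζ _) z).eq, mul_assoc]
      congr 1
      rw [← z1, ← z1, ← z1, ← z1]
      congr 1; ring)
    (fun x => by rw [ad]; change 1 * x * ζ (c 1 * _) = x; rw [hc.one, zero_mul, z0]; simp) as
  let _ : AddCommGroup T := { G with
    add_comm := fun x y => by
      have e1 : x + y + (x + y) = y + x + (x + y) := by
        rw [as, add_assoc, ← add_assoc x, as, zero_add, as]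
      exact add_right_cancel e1 }
  let _ : Module (ZMod 2) T := AddCommGroup.zmodModule fun x => by rw [two_nsmul]; exact as x
  let _ := ZMod.algebra F 2
  let ζ' : F →+ T := AddMonoidHom.mk' ζ fun a b => by
    change _ = ζ a * ζ b * ζ _
    rw [c2, zero_mul, z0, mul_one, z1]
  obtain ⟨g, hg⟩ := (ζ'.toZModLinearMap 2).exists_leftInverse_of_injective
    (LinearMap.ker_eq_bot.2 fun a b e1 => by rw [← hζ' a, ← hζ' b]; exact congrArg e e1)
  have g1 : ∀ a, g (ζ a) = a := fun a => LinearMap.congr_fun hg a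
  refine ⟨g, fun x y => ?_, fun z hz => by rw [← g1 (e z), z2 z hz]⟩
  rw [← map_add, ← g1 (c x * θ (c y)), ← map_add]
  congr 1
  change _ = x * y * ζ _ * ζ _ * ζ _
  rw [c2, map_zero, mul_zero, z0, mul_one, mul_assoc, hζ, mul_one]

/-- coordinates -/
theorem Hyp.coords (h : Hyp k F) (hT : Nat.card T = Nat.card F ^ 2) (hna : ¬ IsMulCommutative T) :
    ∃ (θ : F ≃+* F) (l : F) (x : F → F → T), θ ≠ 1 ∧ l ≠ 0 ∧ l ≠ 1 ∧ l * θ l ≠ 1 ∧
      (Function.Bijective fun p : F × F => x p.1 p.2) ∧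
      (∀ a b c d, x a b * x c d = x (a + c) (b + d + a * θ c)) ∧
      ∀ a b, k (x a b) = x (l * a) (l * θ l * b) := by
  have := Fintype.ofFinite F
  obtain ⟨θ, l, c, e, hc, he, hQ⟩ := h.exists_quad hT hna
  obtain ⟨b0, b1, b2⟩ := h.exists_lift hc he hQ
  have hp : ((Nat.card F - 1 : ℕ) : F) = 1 := by
    rw [Nat.cast_sub Nat.card_pos, Nat.card_eq_fintype_card, FiniteField.cast_card_eq_zero,
      Nat.cast_one, zero_sub, CharTwo.neg_eq]
  have n0 := he.ne0
  let b : T → F := fun x => ∑ i ∈ range (Nat.card F - 1), (l * θ l)⁻¹ ^ i * b0 ((k ^ i) x)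
  have d1 : ∀ x y, b (x * y) = b x + b y + c x * θ (c y) := fun x y => by
    rw [← one_mul (c x * _), ← hp, ← nsmul_eq_mul, ← card_range (Nat.card F - 1), ← sum_const,
      ← sum_add_distrib, ← sum_add_distrib]
    refine sum_congr rfl fun i _ => ?_
    rw [map_mul, b1, hc.pow i trivial, hc.pow i trivial, map_mul, map_pow, mul_mul_mul_comm,
      ← mul_pow, mul_add, mul_add, ← mul_assoc, ← mul_pow, inv_mul_cancel₀ n0, one_pow, one_mul]
  have d2 : ∀ z ∈ h.Z, b z = e z := fun z hz => by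
    rw [← one_mul (e z), ← hp, ← nsmul_eq_mul, ← card_range (Nat.card F - 1), ← sum_const]
    refine sum_congr rfl fun i _ => ?_
    rw [b2 _ (h.invZ.pow i hz), he.pow i hz, ← mul_assoc, ← mul_pow, inv_mul_cancel₀ n0, one_pow,
      one_mul]
  have d3 : ∀ x, b (k x) = l * θ l * b x := fun x => by
    have h1 := sum_range_succ (fun i => (l * θ l)⁻¹ ^ i * b0 ((k ^ i) x)) (Nat.card F - 1)
    have h2 : (l * θ l)⁻¹ ^ (Nat.card F - 1) = 1 := by
      rw [Nat.card_eq_fintype_card]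
      exact FiniteField.pow_card_sub_one_eq_one _ (inv_ne_zero n0)
    rw [sum_range_succ', h.pow, h2, pow_zero, pow_zero, add_left_inj] at h1
    rw [← inv_mul_eq_iff_eq_mul₀ n0]
    change _ = ∑ i ∈ _, _
    rw [← h1, mul_sum]
    exact sum_congr rfl fun i _ => by rw [pow_succ k, MulAut.mul_apply, pow_succ', mul_assoc]
  have hb : Function.Bijective fun x => (c x, b x) := by
    refine (Nat.bijective_iff_injective_and_card _).2 ⟨fun x y e1 => ?_, by
      rw [Nat.card_prod, hT, pow_two]⟩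
    obtain ⟨e2, e3⟩ := Prod.ext_iff.1 e1
    have a1 := (hc.eq_iff trivial trivial).1 e2
    have a2 := d1 x (x⁻¹ * y)
    rw [mul_inv_cancel_left, (hc.ker _ trivial).2 a1, map_zero, mul_zero, add_zero, d2 _ a1] at a2
    exact inv_mul_eq_one.1 (h.zeroZ he a1 (by simpa using e3.trans a2))
  let E := Equiv.ofBijective _ hb
  have E1 : ∀ p, c (E.symm p) = p.1 := fun p => congrArg Prod.fst (E.apply_symm_apply p)
  have E2 : ∀ p, b (E.symm p) = p.2 := fun p => congrArg Prod.snd (E.apply_symm_apply p)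
  refine ⟨θ, l, fun a b => E.symm (a, b), fun e1 => hna ⟨⟨fun x y => hb.1 ?_⟩⟩, hc.ne0, hc.ne1,
    he.ne1, E.symm.bijective, fun a b c d => hb.1 ?_, fun a b => hb.1 ?_⟩
  · simp only [d1, hc.add _ trivial _ trivial, e1, Prod.mk.injEq]
    exact ⟨add_comm _ _, by rw [add_comm (b x)]; exact congrArg _ (mul_comm _ _)⟩
  · simp only [d1, hc.add _ trivial _ trivial, E1, E2]
  · simp only [d3, hc.act _ trivial, E1, E2]

theorem coords {T : Type*} [Group T] [Finite T] (hT : IsPGroup 2 T) (k : MulAut T) {q : ℕ}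
    (hp : (q - 1).Prime) (hk : k ^ (q - 1) = 1) (fpf : ∀ x, k x = x → x = 1)
    (hc : ∀ t : T, t * t = 1 → t ∈ Subgroup.center T) (hZ : Nat.card {t : T // t * t = 1} = q)
    (hq : Nat.card T = q ^ 2) (hna : ¬ IsMulCommutative T)
    (F : Type*) [Field F] [Finite F] [CharP F 2] (hF : Nat.card F = q) :
    ∃ (θ : F ≃+* F) (l : F) (x : F → F → T), θ ≠ 1 ∧ l ≠ 0 ∧ l ≠ 1 ∧ l * θ l ≠ 1 ∧
      (Function.Bijective fun p : F × F => x p.1 p.2) ∧
      (∀ a b c d, x a b * x c d = x (a + c) (b + d + a * θ c)) ∧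
      ∀ a b, k (x a b) = x (l * a) (l * θ l * b) :=
  (Hyp.of hT k hp hk fpf hc hZ F hF).coords (hF ▸ hq) hna

end Cfsg.Agent.EPH
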