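import Cfsg.Agent.Lib.EPH.Fld
import Cfsg.Agent.Lib.Blk.Quat

/-! Coordinates on the sections of a two-group with an automorphism of Mersenne prime order. -/

set_option autoImplicit false

namespace Cfsg.Agent.EPH

open Finset
open scoped commutatorElement

variable {T : Type*} [Group T] {F : Type*} [Field F]

/-- invariant subgroup -/
def Inv (k : MulAut T) (H : Subgroup T) : Prop := ∀ x ∈ H, k x ∈ H

theorem Inv.pow {k : MulAut T} {H : Subgroup T} (h : Inv k H) (i : ℕ) {x : T} (hx : x ∈ H) :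
    (k ^ i) x ∈ H := by
  induction i with
  | zero => exact hx
  | succ i ih => rw [pow_succ']; exact h _ ih

/-- `e` is a coordinate on the section `A / B` -/
structure Crd (k : MulAut T) (A B : Subgroup T) (e : T → F) (μ : F) : Prop where
  inv : Inv k A
  add : ∀ x ∈ A, ∀ y ∈ A, e (x * y) = e x + e y
  ker : ∀ x ∈ A, e x = 0 ↔ x ∈ B
  surj : ∀ a, ∃ x ∈ A, e x = a
  act : ∀ x ∈ A, e (k x) = μ * e x
  ne0 : μ ≠ 0
  ne1 : μ ≠ 1

theorem add_self [CharP F 2] (a : F) : a + a = 0 := CharTwo.add_self_eq_zero a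

namespace Crd

variable {k : MulAut T} {A B : Subgroup T} {e : T → F} {μ : F} (h : Crd k A B e μ)
include h

theorem one : e 1 = 0 := (h.ker 1 (one_mem _)).2 (one_mem _)

theorem inv' [CharP F 2] {x : T} (hx : x ∈ A) : e x⁻¹ = e x := by
  have := h.add x hx x⁻¹ (inv_mem hx)
  rw [mul_inv_cancel, h.one] at this
  linear_combination -this - add_self (e x)

theorem sq [CharP F 2] {x : T} (hx : x ∈ A) : x * x ∈ B :=
  (h.ker _ (mul_mem hx hx)).1 (by rw [h.add x hx x hx, add_self])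

theorem eq_iff [CharP F 2] {x y : T} (hx : x ∈ A) (hy : y ∈ A) : e x = e y ↔ x⁻¹ * y ∈ B := by
  rw [← h.ker _ (mul_mem (inv_mem hx) hy), h.add _ (inv_mem hx) _ hy, h.inv' hx]
  exact ⟨fun e1 => by rw [e1, add_self], fun e1 => by linear_combination e1 - add_self (e y)⟩

theorem pow (i : ℕ) {x : T} (hx : x ∈ A) : e ((k ^ i) x) = μ ^ i * e x := by
  induction i with
  | zero => simp
  | succ i ih => rw [pow_succ', MulAut.mul_apply, h.act _ (h.inv.pow i hx), ih, pow_succ', mul_assoc]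

theorem card (hB : B ≤ A) : Nat.card A = Nat.card F * Nat.card B := by
  let f : A →* Multiplicative F :=
    MonoidHom.mk' (fun x => Multiplicative.ofAdd (e x)) fun x y => congrArg _ (h.add _ x.2 _ y.2)
  have h1 : f.ker = B.subgroupOf A := by
    ext x
    rw [MonoidHom.mem_ker, Subgroup.mem_subgroupOf, ← h.ker _ x.2]
    rfl
  have h2 : f.range = ⊤ := MonoidHom.range_eq_top.2 fun a => by
    obtain ⟨x, hx, e1⟩ := h.surj a.toAdd
    exact ⟨⟨x, hx⟩, congrArg Multiplicative.ofAdd e1⟩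
  rw [← f.ker.index_mul_card, Subgroup.index_ker, h2, Subgroup.card_top, h1,
    Nat.card_congr (Subgroup.subgroupOfEquivOfLe hB).toEquiv]
  rfl

theorem not_le : ¬ A ≤ B := fun e1 => by
  obtain ⟨x, hx, e2⟩ := h.surj 1
  exact one_ne_zero (e2.symm.trans ((h.ker x hx).2 (e1 hx)))

end Crd

theorem pairing [CharP F 2] {k : MulAut T} {X X0 Y Y0 : Subgroup T} {e1 e2 : T → F} {l m ν : F}
    (hX : Crd k X X0 e1 l) (hY : Crd k Y Y0 e2 m) (P : T → T → F)
    (aL : ∀ x ∈ X, ∀ x' ∈ X, ∀ y ∈ Y, P (x * x') y = P x y + P x' y)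
    (aR : ∀ x ∈ X, ∀ y ∈ Y, ∀ y' ∈ Y, P x (y * y') = P x y + P x y')
    (zL : ∀ x ∈ X, x ∈ X0 → ∀ y ∈ Y, P x y = 0) (zR : ∀ x ∈ X, ∀ y ∈ Y, y ∈ Y0 → P x y = 0)
    (act : ∀ x ∈ X, ∀ y ∈ Y, P (k x) (k y) = ν * P x y) :
    ∃ β : F → F → F, (∀ a b u, β (a + b) u = β a u + β b u) ∧
      (∀ a u v, β a (u + v) = β a u + β a v) ∧ (∀ a u, β (l * a) (m * u) = ν * β a u) ∧
      ∀ x ∈ X, ∀ y ∈ Y, P x y = β (e1 x) (e2 y) := by
  choose s hs hs' using hX.surj
  choose t ht ht' using hY.surj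
  have key : ∀ x ∈ X, ∀ y ∈ Y, P x y = P (s (e1 x)) (t (e2 y)) := fun x hx y hy => by
    have h1 := mul_mem (inv_mem (hs (e1 x))) hx
    have h2 := mul_mem (inv_mem (ht (e2 y))) hy
    rw [← mul_inv_cancel_left (s (e1 x)) x, aL _ (hs _) _ h1 _ hy,
      zL _ h1 ((hX.eq_iff (hs _) hx).1 (hs' _)) _ hy, add_zero, mul_inv_cancel_left,
      ← mul_inv_cancel_left (t (e2 y)) y, aR _ (hs _) _ (ht _) _ h2,
      zR _ (hs _) _ h2 ((hY.eq_iff (ht _) hy).1 (ht' _)), add_zero, mul_inv_cancel_left]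
  refine ⟨fun a u => P (s a) (t u), fun a b u => ?_, fun a u v => ?_, fun a u => ?_, key⟩
  · rw [← aL _ (hs a) _ (hs b) _ (ht u), key _ (mul_mem (hs a) (hs b)) _ (ht u),
      hX.add _ (hs a) _ (hs b), hs', hs', ht']
  · rw [← aR _ (hs a) _ (ht u) _ (ht v), key _ (hs a) _ (mul_mem (ht u) (ht v)),
      hY.add _ (ht u) _ (ht v), hs', ht', ht']
  · rw [← act _ (hs a) _ (ht u), key _ (hX.inv _ (hs a)) _ (hY.inv _ (ht u)), hX.act _ (hs a),
      hY.act _ (ht u), hs', ht']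

theorem surj_of_ne [Finite F] (hp : (Nat.card F - 1).Prime) {k : MulAut T} {A : Subgroup T}
    (hA : Inv k A) {e : T → F} {μ : F} (h0 : μ ≠ 0) (h1 : μ ≠ 1) (e1 : e 1 = 0)
    (act : ∀ x ∈ A, e (k x) = μ * e x) {x : T} (hx : x ∈ A) (hx' : e x ≠ 0) (a : F) :
    ∃ y ∈ A, e y = a := by
  by_cases ha : a = 0
  · exact ⟨1, one_mem _, ha ▸ e1⟩
  obtain ⟨i, hi⟩ := gen hp h0 h1 (div_ne_zero ha hx')
  have h2 : ∀ i : ℕ, e ((k ^ i) x) = μ ^ i * e x := fun i => by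
    induction i with
    | zero => simp
    | succ i ih => rw [pow_succ', MulAut.mul_apply, act _ (hA.pow i hx), ih, pow_succ', mul_assoc]
  exact ⟨_, hA.pow i hx, by rw [h2, ← hi, div_mul_cancel₀ _ hx']⟩

/-- the hypothesis -/
structure Hyp (k : MulAut T) (F : Type*) [Field F] : Prop where
  two : IsPGroup 2 T
  prime : (Nat.card F - 1).Prime
  pow : k ^ (Nat.card F - 1) = 1
  fpf : ∀ x, k x = x → x = 1
  cen : ∀ t : T, t * t = 1 → ∀ g, Commute t g
  card : Nat.card {t : T // t * t = 1} = Nat.card F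

namespace Hyp

variable {k : MulAut T} (h : Hyp k F)
include h

/-- the subgroup of elements of order at most two -/
def Z : Subgroup T where
  carrier := {t | t * t = 1}
  mul_mem' := fun {a b} ha hb => by
    change a * b * (a * b) = 1
    rw [(h.cen b hb a).mul_mul_mul_comm, ha, hb, one_mul]
  one_mem' := one_mul 1
  inv_mem' := fun {a} ha => by
    change a⁻¹ * a⁻¹ = 1
    rw [← mul_inv_rev, ha, inv_one]

theorem memZ {t : T} : t ∈ h.Z ↔ t * t = 1 := Iff.rfl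

theorem memZ' {t : T} : t ∈ h.Z ↔ t ^ 2 = 1 := by rw [pow_two]; rfl

theorem cardZ : Nat.card h.Z = Nat.card F := h.card

theorem invZ : Inv k h.Z := fun x hx => by rw [h.memZ, ← map_mul, hx, map_one]

theorem normalZ : h.Z.Normal := ⟨fun n hn g => by
  rw [← (h.cen n hn g).eq, mul_inv_cancel_right]; exact hn⟩

variable [Finite T] [Finite F] [CharP F 2]

theorem exists_crd' {A B K : Subgroup T} (hA : Inv k A) (hB : Inv k B) (hBA : B ≤ A) (hBK : B ≤ K)
    (hK : ∀ x ∈ A, ∀ y ∈ A, x * y ∈ K ↔ (x ∈ K ↔ y ∈ K)) {x0 : T} (hx0 : x0 ∈ A) (ε3 : x0 ∉ K) :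
    ∃ (M : Subgroup T) (e : T → F) (μ : F),
      B ≤ M ∧ M ≤ A ∧ Inv k M ∧ Crd k A M e μ ∧ x0 ∉ M := by
  classical
  have := Fintype.ofFinite F
  let ε : T → F := fun x => if x ∈ K then 0 else 1
  have ε1 : ∀ x ∈ A, ∀ y ∈ A, ε (x * y) = ε x + ε y := fun x hx y hy => by
    simp only [ε, hK x hx y hy]
    by_cases h1 : x ∈ K <;> by_cases h2 : y ∈ K <;> simp [h1, h2, add_self]
  have ε2 : ∀ x ∈ B, ε x = 0 := fun x hx => if_pos (hBK hx)
  let E : Fˣ → T → F := fun ν x => ∑ i ∈ range (Nat.card F - 1), (ν : F) ^ i * ε ((k ^ i) x)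
  have E1 : ∀ ν, ∀ x ∈ A, ∀ y ∈ A, E ν (x * y) = E ν x + E ν y := fun ν x hx y hy => by
    rw [← sum_add_distrib]
    exact sum_congr rfl fun i _ => by rw [map_mul, ε1 _ (hA.pow i hx) _ (hA.pow i hy), mul_add]
  have E2 : ∀ ν, ∀ x ∈ B, E ν x = 0 := fun ν x hx =>
    sum_eq_zero fun i _ => by rw [ε2 _ (hB.pow i hx), mul_zero]
  have E3 : ∀ (ν : Fˣ) x, E ν (k x) = (ν : F)⁻¹ * E ν x := fun ν x => by
    have h1 := sum_range_succ (fun i => (ν : F) ^ i * ε ((k ^ i) x)) (Nat.card F - 1)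
    have h2 : (ν : F) ^ (Nat.card F - 1) = 1 := by
      rw [Nat.card_eq_fintype_card]; exact FiniteField.pow_card_sub_one_eq_one _ ν.ne_zero
    rw [sum_range_succ', h.pow, h2, pow_zero, pow_zero, add_left_inj] at h1
    rw [eq_inv_mul_iff_mul_eq₀ ν.ne_zero]
    change _ = ∑ i ∈ _, _
    rw [← h1, mul_sum]
    exact sum_congr rfl fun i _ => by rw [pow_succ k, MulAut.mul_apply, pow_succ', mul_assoc]
  obtain ⟨ν, hν⟩ : ∃ ν, E ν x0 ≠ 0 := by
    by_contra e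
    push Not at e
    have h1 : ∑ ν : Fˣ, E ν x0 = -ε x0 := by
      rw [sum_comm, sum_eq_single 0]
      · rw [← sum_mul, FiniteField.sum_pow_units]; simp
      · intro i hi h0
        rw [← sum_mul, FiniteField.sum_pow_units, if_neg, zero_mul]
        rw [← Nat.card_eq_fintype_card]
        exact Nat.not_dvd_of_pos_of_lt (Nat.pos_of_ne_zero h0) (mem_range.1 hi)
      · exact fun e => absurd (mem_range.2 h.prime.pos) e
    simp only [e, sum_const_zero, ε, if_neg ε3] at h1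
    exact one_ne_zero (neg_eq_zero.1 h1.symm)
  have E0 : E ν 1 = 0 := E2 ν 1 (one_mem _)
  have E4 : ∀ x ∈ A, E ν x⁻¹ = E ν x := fun x hx => by
    have := E1 ν x hx x⁻¹ (inv_mem hx)
    rw [mul_inv_cancel, E0] at this
    linear_combination -this - add_self (E ν x)
  have h0 : (ν : F)⁻¹ ≠ 0 := inv_ne_zero ν.ne_zero
  have h1 : (ν : F)⁻¹ ≠ 1 := fun e => by
    obtain ⟨y, hy⟩ := Finite.surjective_of_injective (f := fun y : A =>
      (⟨y⁻¹ * k y, mul_mem (inv_mem y.2) (hA _ y.2)⟩ : A)) (fun y z e => by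
        have e1 : y.1⁻¹ * k y = z.1⁻¹ * k z := congrArg Subtype.val e
        have := h.fpf (y * z.1⁻¹) (by
          rw [map_mul, map_inv, mul_inv_eq_iff_eq_mul, mul_assoc, ← e1, mul_inv_cancel_left])
        exact Subtype.ext (mul_inv_eq_one.1 this)) ⟨x0, hx0⟩
    have e1 : y.1⁻¹ * k y = x0 := congrArg Subtype.val hy
    apply hν
    rw [← e1, E1 _ _ (inv_mem y.2) _ (hA _ y.2), E3, E4 _ y.2, e, one_mul, add_self]
  let M : Subgroup T :=
    { carrier := {x | x ∈ A ∧ E ν x = 0}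
      mul_mem' := fun {x y} hx hy =>
        ⟨mul_mem hx.1 hy.1, by rw [E1 _ _ hx.1 _ hy.1, hx.2, hy.2, add_zero]⟩
      one_mem' := ⟨one_mem _, E0⟩
      inv_mem' := fun {x} hx => ⟨inv_mem hx.1, by rw [E4 _ hx.1, hx.2]⟩ }
  exact ⟨M, E ν, _, fun x hx => ⟨hBA hx, E2 _ x hx⟩, fun x hx => hx.1,
    fun x hx => ⟨hA x hx.1, by rw [E3, hx.2, mul_zero]⟩, ⟨hA, E1 ν,
    fun x hx => ⟨fun e => ⟨hx, e⟩, fun e => e.2⟩,
    surj_of_ne h.prime hA h0 h1 E0 (fun x _ => E3 ν x) hx0 hν, fun x _ => E3 ν x, h0, h1⟩,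
    fun e => hν e.2⟩

theorem exists_crd {A B : Subgroup T} (hA : Inv k A) (hB : Inv k B) (hBA : B ≤ A) (hne : ¬ A ≤ B) :
    ∃ (M : Subgroup T) (e : T → F) (μ : F), B ≤ M ∧ M ≤ A ∧ Inv k M ∧ Crd k A M e μ := by
  have := Fact.mk Nat.prime_two
  obtain ⟨a, ha⟩ := (h.two.to_subgroup A).exists_card_eq
  obtain ⟨b, hb⟩ := (h.two.to_subgroup B).exists_card_eq
  have hab : b < a := by
    refine (Nat.pow_lt_pow_iff_right one_lt_two).1 ?_
    rw [← ha, ← hb]
    exact lt_of_le_of_ne (Subgroup.card_le_of_le hBA) fun e =>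
      hne (Subgroup.eq_of_le_of_card_ge hBA e.ge).ge
  obtain ⟨a, rfl⟩ : ∃ a', a = a' + 1 := ⟨a - 1, by omega⟩
  obtain ⟨K, hK, hBK⟩ := Sylow.exists_subgroup_card_pow_prime_le (G := A) 2 (n := b) (m := a)
    (ha ▸ pow_dvd_pow 2 a.le_succ) (B.subgroupOf A)
    (by rw [Nat.card_congr (Subgroup.subgroupOfEquivOfLe hBA).toEquiv, hb]) (by omega)
  have hi : K.index = 2 := by
    have := K.index_mul_card
    rw [hK, ha, pow_succ'] at this
    exact Nat.eq_of_mul_eq_mul_right (by positivity) this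
  have hm : ∀ x (hx : x ∈ A), x ∈ K.map A.subtype ↔ (⟨x, hx⟩ : A) ∈ K := fun x hx =>
    Subgroup.mem_map_iff_mem (f := A.subtype) (x := ⟨x, hx⟩) A.subtype_injective
  obtain ⟨⟨x0, hx0⟩, ε3⟩ : ∃ x : A, x ∉ K := by
    by_contra e
    push Not at e
    rw [(eq_top_iff.2 fun x _ => e x : K = ⊤), Subgroup.index_top] at hi
    omega
  obtain ⟨M, e, μ, a1, a2, a3, a4, -⟩ := h.exists_crd' hA hB hBA (K := K.map A.subtype)
    (fun x hx => (hm x (hBA hx)).2 (hBK hx)) (fun x hx y hy => by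
      have := Subgroup.mul_mem_iff_of_index_two hi (a := ⟨x, hx⟩) (b := ⟨y, hy⟩)
      rwa [← hm, ← hm x hx, ← hm y hy] at this) hx0 (mt (hm x0 hx0).1 ε3)
  exact ⟨M, e, μ, a1, a2, a3, a4⟩

theorem exists_crdZ : ∃ (e : T → F) (μ : F), Crd k h.Z ⊥ e μ := by
  obtain ⟨M, e, μ, -, h2, -, h4⟩ := h.exists_crd h.invZ (B := ⊥)
    (fun x hx => by rw [Subgroup.mem_bot.1 hx, map_one]; exact one_mem _) bot_le fun e => by
      have := h.cardZ
      rw [le_bot_iff.1 e, Subgroup.card_bot] at this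
      exact (Finite.one_lt_card (α := F)).ne this
  have h5 := h4.card h2
  rw [h.cardZ, eq_comm, Nat.mul_eq_left Nat.card_pos.ne', Subgroup.card_eq_one] at h5
  exact ⟨e, μ, h5 ▸ h4⟩

end Hyp

/-- a cover of `A` -/
structure Cov (k : MulAut T) (A C : Subgroup T) (c : T → F) (μ : F) : Prop where
  crd : Crd k C A c μ
  le : A ≤ C
  cen : ∀ u ∈ C, ∀ g : T, ⁅g, u⁆ ∈ A

theorem Hyp.exists_cov [Finite T] [Finite F] [CharP F 2] {k : MulAut T} (h : Hyp k F)
    {A H : Subgroup T} [A.Normal] [H.Normal] (hA : Inv k A) (hH : Inv k H) (hle : A ≤ H)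
    (hne : ¬ H ≤ A) : ∃ (C : Subgroup T) (c : T → F) (μ : F), Cov k A C c μ ∧ C ≤ H := by
  have := Fact.mk Nat.prime_two
  let D : Subgroup T :=
    { carrier := {x | x ∈ H ∧ ∀ g : T, ⁅g, x⁆ ∈ A}
      mul_mem' := fun {x y} hx hy => ⟨mul_mem hx.1 hy.1, fun g => by
        have := mul_mem (hx.2 g) (Subgroup.Normal.conj_mem inferInstance _ (hy.2 g) x)
        convert this using 1
        simp only [commutatorElement_def]; group⟩
      one_mem' := ⟨one_mem _, fun g => by simp⟩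
      inv_mem' := fun {x} hx => ⟨inv_mem hx.1, fun g => by
        have := Subgroup.Normal.conj_mem inferInstance _ (inv_mem (hx.2 g)) x⁻¹
        convert this using 1
        simp only [commutatorElement_def]; group⟩ }
  obtain ⟨x, h1, h2, -, h3⟩ := Blk.exists_central_mod h.two A H hle hne
  obtain ⟨C, -, hC⟩ := exists_minimal_le_of_wellFoundedLT (fun C : Subgroup T =>
    Inv k C ∧ A ≤ C ∧ C ≤ D ∧ ¬ C ≤ A) D ⟨fun y hy => ⟨hH y hy.1, fun g => by
      obtain ⟨g, rfl⟩ := k.surjective g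
      rw [← map_commutatorElement]
      exact hA _ (hy.2 g)⟩, fun a ha => ⟨hle ha, fun g => mul_mem
        (Subgroup.Normal.conj_mem inferInstance _ ha g) (inv_mem ha)⟩, le_rfl,
      fun e => h2 (e ⟨h1, h3⟩)⟩
  obtain ⟨M, e, μ, a1, a2, a3, a4⟩ := h.exists_crd hC.prop.1 hA hC.prop.2.1 hC.prop.2.2.2
  have a5 : M ≤ A := by
    by_contra e1
    exact a4.not_le (hC.2 ⟨a3, a1, a2.trans hC.prop.2.2.1, e1⟩ a2)
  exact ⟨C, e, μ, ⟨le_antisymm a5 a1 ▸ a4, hC.prop.2.1, fun u hu => (hC.prop.2.2.1 hu).2⟩,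
    fun u hu => (hC.prop.2.2.1 hu).1⟩

theorem Crd.restrict [Finite F] (hp : (Nat.card F - 1).Prime) {k : MulAut T} {A B D : Subgroup T}
    {e : T → F} {μ : F} (h : Crd k A B e μ) (hD : Inv k D) (hle : D ≤ A) (hne : ¬ D ≤ B) :
    Crd k D (D ⊓ B) e μ := by
  obtain ⟨x, hx, hx'⟩ := SetLike.not_le_iff_exists.1 hne
  exact ⟨hD, fun x hx y hy => h.add x (hle hx) y (hle hy),
    fun x hx => (h.ker x (hle hx)).trans ⟨fun e => ⟨hx, e⟩, fun e => e.2⟩,
    surj_of_ne hp hD h.ne0 h.ne1 h.one (fun x hx => h.act x (hle hx)) hx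
      (mt (h.ker x (hle hx)).1 hx'), fun x hx => h.act x (hle hx), h.ne0, h.ne1⟩

theorem comm_mem_of_sq {A : Subgroup T} (sq : ∀ x, x * x ∈ A) (x y : T) : ⁅x, y⁆ ∈ A := by
  have := mul_mem (mul_mem (sq x) (sq (x⁻¹ * y))) (sq y⁻¹)
  convert this using 1
  simp only [commutatorElement_def]; group

/-- complete reducibility -/
theorem Hyp.top_of_cov [Finite T] [Finite F] [CharP F 2] {k : MulAut T} (h : Hyp k F)
    {A H : Subgroup T} (hA : Inv k A) (sq : ∀ x, x * x ∈ A) (hH : Inv k H) (hle : A ≤ H)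
    (hc : ∀ (C : Subgroup T) (c : T → F) (μ : F), Cov k A C c μ → C ≤ H) (x : T) : x ∈ H := by
  by_contra hx
  obtain ⟨M, e, μ, a1, -, a3, a4⟩ := h.exists_crd (A := ⊤) (fun _ _ => trivial) hH le_top
    fun e => hx (e trivial)
  obtain ⟨D, -, ⟨d1, d2, d3⟩, hD⟩ := exists_minimal_le_of_wellFoundedLT (fun D : Subgroup T =>
    Inv k D ∧ A ≤ D ∧ ¬ D ≤ M) ⊤ ⟨fun _ _ => trivial, le_top, a4.not_le⟩
  have a5 := a4.restrict h.prime d1 le_top d3
  have a6 : D ⊓ M ≤ A := by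
    intro x0 hx0
    by_contra e0
    obtain ⟨K, -, ⟨k1, k2⟩, hK⟩ := Finite.exists_le_maximal
      (p := fun K : Subgroup T => A ≤ K ∧ x0 ∉ K) (a := A) ⟨le_rfl, e0⟩
    have : K.Normal := ⟨fun n hn g => by
      have := mul_mem (k1 (comm_mem_of_sq sq g n)) hn
      rwa [commutatorElement_def, inv_mul_cancel_right] at this⟩
    have k3 : ∀ y ∉ K, y * x0 ∈ K := fun y hy => by
      have : x0 ∈ Subgroup.zpowers y ⊔ K := by
        by_contra e1
        exact hy (hK ⟨k1.trans le_sup_right, e1⟩ le_sup_right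
          (Subgroup.mem_sup_left (Subgroup.mem_zpowers y)))
      obtain ⟨_, ⟨m, rfl⟩, z, hz, rfl⟩ := Subgroup.mem_sup_of_normal_right.1 this
      have h2 : ∀ j : ℤ, y ^ (2 * j) ∈ K := fun j => by
        rw [zpow_mul, zpow_two]; exact zpow_mem (k1 (sq y)) j
      obtain ⟨j, rfl | rfl⟩ := Int.even_or_odd' m
      · exact absurd (mul_mem (h2 j) hz) k2
      · rw [← mul_assoc, ← zpow_one_add, show 1 + (2 * j + 1) = 2 * (j + 1) by ring]
        exact mul_mem (h2 _) hz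
    obtain ⟨M', e', μ', b1, b2, b3, b4, b5⟩ := h.exists_crd' d1 hA d2 k1 (fun x _ y _ => by
      by_cases h1 : x ∈ K
      · simp [mul_mem_cancel_left h1, h1]
      by_cases h2 : y ∈ K
      · simp [mul_mem_cancel_right h2, h2]
      have := mul_mem (k3 x h1) (inv_mem (k3 y⁻¹ (mt inv_mem_iff.1 h2)))
      simpa [h1, h2, mul_assoc] using this) hx0.1 k2
    have b6 : M' ≤ M := by
      by_contra e1
      exact b5 (hD ⟨b3, b1, e1⟩ b2 hx0.1)
    have b7 := (b4.card b2).symm.trans (a5.card inf_le_left)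
    rw [Subgroup.eq_of_le_of_card_ge (le_inf b2 b6)
      (Nat.eq_of_mul_eq_mul_left Nat.card_pos b7).ge] at b5
    exact b5 hx0
  exact d3 ((hc D e μ ⟨le_antisymm a6 (le_inf d2 (hle.trans a1)) ▸ a5, d2,
    fun u _ g => comm_mem_of_sq sq g u⟩).trans a1)

end Cfsg.Agent.EPH
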