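import Mathlib

/-! Equivariant bilinear maps on a field of order `p + 1`, `p` a Mersenne prime. -/

set_option autoImplicit false

namespace Cfsg.Agent.EPH

open Finset

variable {F : Type*} [Field F] [Finite F]

theorem gen (hp : (Nat.card F - 1).Prime) {μ : F} (h0 : μ ≠ 0) (h1 : μ ≠ 1) {x : F} (hx : x ≠ 0) :
    ∃ i : ℕ, x = μ ^ i := by
  have := Fact.mk hp
  have h2 : Units.mk0 x hx ∈ Subgroup.zpowers (Units.mk0 μ h0) := by
    rw [zpowers_eq_top_of_prime_card (Nat.card_units F) fun e => h1 (congrArg Units.val e)]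
    exact Subgroup.mem_top _
  obtain ⟨i, hi⟩ := mem_powers_iff_mem_zpowers.2 h2
  exact ⟨i, by simpa using (congrArg Units.val hi).symm⟩

theorem aut_ext (hp : (Nat.card F - 1).Prime) {μ : F} (h0 : μ ≠ 0) (h1 : μ ≠ 1) {a b : F ≃+* F}
    (h : a μ = b μ) : a = b := by
  ext x
  by_cases hx : x = 0
  · rw [hx, map_zero, map_zero]
  · obtain ⟨i, rfl⟩ := gen hp h0 h1 hx
    rw [map_pow, map_pow, h]

theorem mul_ext (hp : (Nat.card F - 1).Prime) {μ : F} (h0 : μ ≠ 0) (h1 : μ ≠ 1) {a b c d : F ≃+* F}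
    (h : a μ * b μ = c μ * d μ) : (a = c ∧ b = d) ∨ (a = d ∧ b = c) := by
  have h2 : ∀ x, a x * b x = c x * d x := fun x => by
    by_cases hx : x = 0
    · simp [hx]
    · obtain ⟨i, rfl⟩ := gen hp h0 h1 hx
      simp only [map_pow, ← mul_pow, h]
  have h3 := h2 (μ + 1)
  simp only [map_add, map_one] at h3
  have h4 : (a μ - c μ) * (a μ - d μ) = 0 := by linear_combination (a μ) * h3 - (a μ + 1) * h
  have ha : a μ ≠ 0 := (map_ne_zero a).2 h0
  rcases mul_eq_zero.1 h4 with e | e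
  · have e' := sub_eq_zero.1 e
    exact Or.inl ⟨aut_ext hp h0 h1 e', aut_ext hp h0 h1 (mul_left_cancel₀ ha (by rw [h, e']))⟩
  · have e' := sub_eq_zero.1 e
    exact Or.inr ⟨aut_ext hp h0 h1 e',
      aut_ext hp h0 h1 (mul_left_cancel₀ ha (by rw [h, e', mul_comm]))⟩

theorem div_inj (hp : (Nat.card F - 1).Prime) {φ : F ≃+* F} (hφ : φ ≠ 1) {x y k : F} (hx : x ≠ 0)
    (hy : y ≠ 0) (e1 : x = k * φ x) (e2 : y = k * φ y) : x = y := by
  by_contra e
  refine hφ (aut_ext hp (div_ne_zero hx hy) (fun e' => e ((div_eq_one_iff_eq hy).1 e')) ?_)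
  have hk : k ≠ 0 := fun e' => hx (by rw [e1, e', zero_mul])
  rw [map_div₀, ← mul_div_mul_left _ _ hk, ← e1, ← e2]
  rfl

noncomputable instance fintypeAut : Fintype (F ≃+* F) :=
  @Fintype.ofFinite _ (Finite.of_injective (fun σ : F ≃+* F => (σ : F → F)) DFunLike.coe_injective)

theorem dedekind {c : (F ≃+* F) → F} (h : ∀ a, ∑ φ, c φ * φ a = 0) (φ : F ≃+* F) : c φ = 0 := by
  have h1 := (linearIndependent_monoidHom F F).comp (fun φ : F ≃+* F => (φ : F →* F))
    fun a b e => RingEquiv.ext fun x => DFunLike.congr_fun e x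
  refine Fintype.linearIndependent_iff.1 h1 c ?_ φ
  funext a
  rw [Finset.sum_apply]
  exact h a

theorem expand [CharP F 2] (f : F →+ F) : ∃ c : (F ≃+* F) → F, ∀ a, f a = ∑ φ, c φ * φ a := by
  have := Fact.mk Nat.prime_two
  let := ZMod.algebra F 2
  let v : (F ≃+* F) → F →ₗ[ZMod 2] F := fun φ => (φ : F →+ F).toZModLinearMap 2
  have h1 : LinearIndependent F v := Fintype.linearIndependent_iff.2 fun c hc =>
    dedekind fun a => by
      have := LinearMap.congr_fun hc a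
      rw [LinearMap.sum_apply] at this
      exact this
  have h2 : Fintype.card (F ≃+* F) = Module.finrank F (F →ₗ[ZMod 2] F) := by
    rw [Module.finrank_linearMap_self, ← IsGalois.card_aut_eq_finrank, ← Nat.card_eq_fintype_card]
    refine (Nat.card_congr ⟨fun σ => AlgEquiv.ofRingEquiv (f := σ) (fun x => ?_), fun σ => σ,
      fun _ => rfl, fun _ => rfl⟩)
    exact DFunLike.congr_fun (Subsingleton.elim ((σ : F →+* F).comp (algebraMap (ZMod 2) F))
      (algebraMap (ZMod 2) F)) x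
  have h3 := h1.span_eq_top_of_card_eq_finrank' h2
  obtain ⟨c, hc⟩ := (Submodule.mem_span_range_iff_exists_fun F).1
    (h3 ▸ Submodule.mem_top : f.toZModLinearMap 2 ∈ Submodule.span F (Set.range v))
  refine ⟨c, fun a => ?_⟩
  have := LinearMap.congr_fun hc a
  rw [LinearMap.sum_apply] at this
  exact this.symm

theorem pair_exp [CharP F 2] (hp : (Nat.card F - 1).Prime) (β : F → F → F)
    (h1 : ∀ a b u, β (a + b) u = β a u + β b u) (h2 : ∀ a u v, β a (u + v) = β a u + β a v)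
    {l m ν : F} (l0 : l ≠ 0) (m0 : m ≠ 0) (m1 : m ≠ 1) (h : ∀ a u, β (l * a) (m * u) = ν * β a u) :
    ∃ (k : (F ≃+* F) → F) (ψ : (F ≃+* F) → F ≃+* F), (∀ a u, β a u = ∑ φ, k φ * φ a * ψ φ u) ∧
      ∀ φ, k φ ≠ 0 → φ l * ψ φ m = ν := by
  choose c hc using fun u => expand (AddMonoidHom.mk' (fun a => β a u) fun a b => h1 a b u)
  simp only [AddMonoidHom.mk'_apply] at hc
  have a1 : ∀ u v φ, c (u + v) φ = c u φ + c v φ := fun u v φ => by
    have := dedekind (c := fun φ => c (u + v) φ - (c u φ + c v φ)) (fun a => by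
      simp only [sub_mul, add_mul, sum_sub_distrib, sum_add_distrib, ← hc, h2, sub_self]) φ
    exact sub_eq_zero.1 this
  have a2 : ∀ u φ, c (m * u) φ = ν / φ l * c u φ := fun u φ => by
    have := dedekind (c := fun φ => c (m * u) φ * φ l - ν * c u φ) (fun a => by
      simp only [sub_mul, sum_sub_distrib, mul_assoc, ← map_mul, ← mul_sum, ← hc, h, sub_self]) φ
    have hl : φ l ≠ 0 := (map_ne_zero φ).2 l0
    field_simp
    linear_combination this
  have a3 : ∀ (i : ℕ) u φ, c (m ^ i * u) φ = (ν / φ l) ^ i * c u φ := fun i u φ => by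
    induction i with
    | zero => simp
    | succ i ih => rw [pow_succ', mul_assoc, a2, ih, pow_succ', mul_assoc]
  have a0 : ∀ φ, c 0 φ = 0 := fun φ => by simpa using a1 0 0 φ
  have a4 : ∀ φ, ∃ ψ : F ≃+* F, (∀ u, c u φ = c 1 φ * ψ u) ∧ (c 1 φ ≠ 0 → φ l * ψ m = ν) := fun φ => by
    by_cases e : c 1 φ = 0
    · refine ⟨1, fun u => ?_, fun e' => absurd e e'⟩
      by_cases hu : u = 0
      · rw [hu, a0, map_zero, mul_zero]
      · obtain ⟨i, rfl⟩ := gen hp m0 m1 hu
        rw [← mul_one (m ^ i), a3, e, mul_zero, zero_mul]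
    · let ψ : F →+* F :=
        { toFun := fun u => c u φ / c 1 φ
          map_one' := div_self e
          map_zero' := by rw [a0, zero_div]
          map_add' := fun u v => by rw [a1, add_div]
          map_mul' := fun u v => by
            by_cases hu : u = 0
            · rw [hu, zero_mul, a0, zero_div, zero_mul]
            · obtain ⟨i, rfl⟩ := gen hp m0 m1 hu
              have := a3 i 1 φ
              rw [mul_one] at this
              rw [a3, this]
              field_simp }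
      refine ⟨RingEquiv.ofBijective ψ (Finite.injective_iff_bijective.1 ψ.injective),
        fun u => ?_, fun _ => ?_⟩
      · change _ = _ * (c u φ / c 1 φ)
        field_simp
      · change _ * (c m φ / c 1 φ) = _
        have := a2 1 φ
        have hl : φ l ≠ 0 := (map_ne_zero φ).2 l0
        rw [mul_one] at this
        rw [this]
        field_simp
  choose ψ hψ hψ' using a4
  exact ⟨c 1, ψ, fun a u => by rw [hc]; exact sum_congr rfl fun φ _ => by rw [hψ]; ring, hψ'⟩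

theorem pair_wt [CharP F 2] (hp : (Nat.card F - 1).Prime) (β : F → F → F)
    (h1 : ∀ a b u, β (a + b) u = β a u + β b u) (h2 : ∀ a u v, β a (u + v) = β a u + β a v)
    {l m ν : F} (l0 : l ≠ 0) (m0 : m ≠ 0) (m1 : m ≠ 1) (h : ∀ a u, β (l * a) (m * u) = ν * β a u) :
    (∀ a u, β a u = 0) ∨ ∃ φ ψ : F ≃+* F, φ l * ψ m = ν := by
  obtain ⟨k, ψ, e1, e2⟩ := pair_exp hp β h1 h2 l0 m0 m1 h
  by_cases e : ∀ φ, k φ = 0
  · exact Or.inl fun a u => by simp [e1, e]
  · obtain ⟨φ, e⟩ := not_forall.1 e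
    exact Or.inr ⟨φ, ψ φ, e2 φ e⟩

theorem pair_mono [CharP F 2] (hp : (Nat.card F - 1).Prime) (β : F → F → F)
    (h1 : ∀ a b u, β (a + b) u = β a u + β b u) (h2 : ∀ a u v, β a (u + v) = β a u + β a v)
    {l m : F} (l0 : l ≠ 0) (l1 : l ≠ 1) (m0 : m ≠ 0) (m1 : m ≠ 1)
    (h : ∀ a u, β (l * a) (m * u) = l * β a u) :
    (∀ a u, β a u = 0) ∨ ∃ (k : F) (φ ψ : F ≃+* F), k ≠ 0 ∧ φ ≠ 1 ∧ ∀ a u, β a u = k * φ a * ψ u := by
  obtain ⟨k, ψ, e1, e2⟩ := pair_exp hp β h1 h2 l0 m0 m1 h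
  by_cases e : ∀ φ, k φ = 0
  · exact Or.inl fun a u => by simp [e1, e]
  obtain ⟨φ, e⟩ := not_forall.1 e
  have n1 : ∀ φ, k φ ≠ 0 → φ ≠ 1 := fun φ e e' => by
    have := e2 φ e
    rw [e'] at this
    exact m1 ((ψ 1).injective (by rw [map_one]; exact mul_left_cancel₀ l0 (this.trans (mul_one l).symm)))
  refine Or.inr ⟨k φ, φ, ψ φ, e, n1 φ e, fun a u => ?_⟩
  rw [e1]
  refine sum_eq_single φ (fun χ _ hχ => ?_) fun e => absurd (mem_univ _) e
  by_cases e' : k χ = 0
  · rw [e', zero_mul, zero_mul]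
  exfalso
  have a1 := congrArg (ψ φ).symm (e2 φ e)
  have a2 := congrArg (ψ χ).symm (e2 χ e')
  rw [map_mul, RingEquiv.symm_apply_apply] at a1 a2
  rcases mul_ext hp l0 l1 (a := (ψ φ).symm) (b := χ.trans (ψ χ).symm) (c := (ψ χ).symm)
    (d := φ.trans (ψ φ).symm) (by
      simp only [RingEquiv.trans_apply]
      rw [← a1, ← a2]; ring) with ⟨b1, b2⟩ | ⟨b1, -⟩
  · refine hχ (RingEquiv.ext fun x => (ψ χ).symm.injective ?_)
    have := DFunLike.congr_fun b2 x
    rw [b1] at this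
    exact this
  · exact n1 φ e (RingEquiv.ext fun x => (ψ φ).symm.injective (DFunLike.congr_fun b1 x).symm)

end Cfsg.Agent.EPH
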