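import Cfsg.Agent.Lib.EPH.Ab

/-! Either `T` is abelian or all its squares are central involutions. -/

set_option autoImplicit false

namespace Cfsg.Agent.EPH.Hyp

open scoped commutatorElement

variable {T : Type*} [Group T] {F : Type*} [Field F] {k : MulAut T} (h : Hyp k F)
  {e : T → F} {l : F}
include h

theorem surj_inv {C : Subgroup T} (hC : Inv k C) {u : T} (hu : u ∈ C) : ∃ v ∈ C, k v = u :=
  ⟨_, hC.pow (Nat.card F - 1 - 1) hu, by
    rw [← MulAut.mul_apply, ← pow_succ', Nat.sub_add_cancel h.prime.pos, h.pow]; rfl⟩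

/-- elements centralising `S` modulo `Z` -/
def cenZ (S : Set T) : Subgroup T where
  carrier := {x | ∀ u ∈ S, ⁅u, x⁆ ∈ h.Z}
  mul_mem' := fun {x y} hx hy u hu => by
    rw [cm_mul_right, h.conj_eq (hy u hu)]; exact mul_mem (hx u hu) (hy u hu)
  one_mem' := fun u _ => by simp
  inv_mem' := fun {x} hx u hu => by
    have := h.normalZ.conj_mem _ (inv_mem (hx u hu)) x⁻¹
    convert this using 1
    simp only [commutatorElement_def]; group

theorem inv_cenZ {S : Set T} (hS : ∀ u ∈ S, ∃ v ∈ S, k v = u) : Inv k (h.cenZ S) :=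
  fun x hx u hu => by
    obtain ⟨v, hv, rfl⟩ := hS u hu
    rw [← map_commutatorElement]
    exact h.invZ _ (hx v hv)

variable [Finite T] [Finite F] [CharP F 2]

theorem sq_of_two (he : Crd k h.Z ⊥ e l) (h2 : ∀ A, Ab k A → ∀ x ∈ A, x * x = 1) (x : T) :
    x * x ∈ h.Z := by
  have := Fact.mk Nat.prime_two
  have := h.normalZ
  have a1 : ∀ y ∈ commutator T ⊓ h.cenZ Set.univ, y ∈ h.Z := h2 _ ⟨fun y hy =>
    ⟨by
      have := Subgroup.characteristic_iff_le_comap.1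
        (inferInstance : (commutator T).Characteristic) k hy.1
      exact this, h.inv_cenZ (fun u _ => by simpa using k.surjective u) y hy.2⟩,
    ⟨fun y hy g => ⟨Subgroup.Normal.conj_mem inferInstance y hy.1 g, by
      have := mul_mem (show ⁅g, y⁆ ∈ h.cenZ Set.univ from fun u _ => by
        rw [commutatorElement_eq_one_iff_commute.2 (h.cen _ (hy.2 g trivial) u).symm]
        exact one_mem _) hy.2
      rwa [commutatorElement_def, inv_mul_cancel_right] at this⟩⟩, fun y hy z hz => by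
      let f : T →* Multiplicative F := MonoidHom.mk' (fun g => Multiplicative.ofAdd (e ⁅g, z⁆))
        fun a b => by
          rw [cm_mul_left, h.conj_eq (hz.2 b trivial), he.add _ (hz.2 b trivial) _ (hz.2 a trivial),
            add_comm]
          rfl
      exact commutatorElement_eq_one_iff_commute.1
        (h.zeroZ he (hz.2 y trivial) (Abelianization.commutator_subset_ker f hy.1))⟩
  have a2 : commutator T ≤ commutator T ⊓ h.Z := by
    by_contra e1
    obtain ⟨y, b1, b2, -, b3⟩ := Blk.exists_central_mod h.two _ _ inf_le_left e1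
    exact b2 ⟨b1, a1 y ⟨b1, fun g _ => (b3 g).2⟩⟩
  have a3 : ∀ x y : T, ⁅x, y⁆ ∈ h.Z := fun x y =>
    (a2 (Subgroup.commutator_mem_commutator trivial trivial)).2
  refine h2 (Subgroup.center T) ⟨fun y hy => ?_, inferInstance,
    fun y hy z _ => (Subgroup.mem_center_iff.1 hy z).symm⟩ _ (Subgroup.mem_center_iff.2 fun g => ?_)
  · exact Subgroup.characteristic_iff_le_comap.1 (inferInstance : (Subgroup.center T).Characteristic)
      k hy
  · refine commutatorElement_eq_one_iff_commute.1 ?_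
    rw [cm_mul_right, h.conj_eq (a3 g x)]
    exact a3 g x

theorem sq_or_comm (he : Crd k h.Z ⊥ e l) : (∀ x y : T, Commute x y) ∨ ∀ x : T, x * x ∈ h.Z := by
  classical
  by_cases h2 : ∀ A, Ab k A → ∀ x ∈ A, x * x = 1
  · exact Or.inr (h.sq_of_two he h2)
  push Not at h2
  obtain ⟨A0, hA0, x0, hx0, hx0'⟩ := h2
  obtain ⟨A, hle, hA, hmax⟩ := Finite.exists_le_maximal (p := Ab k) hA0
  have := hA.nor
  by_cases hT : ⊤ ≤ A
  · exact Or.inl fun x y => hA.comm x (hT trivial) y (hT trivial)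
  right
  obtain ⟨i, hj, x, hx, hx'⟩ : ∃ i, (∀ x ∈ A, x ^ 2 ^ (i + 2) = 1) ∧ ∃ x ∈ A, x ^ 2 ^ (i + 1) ≠ 1 := by
    have := Fact.mk Nat.prime_two
    obtain ⟨N, hN⟩ := h.two.exists_card_eq
    have ex : ∃ i, ∀ x ∈ A, x ^ 2 ^ (i + 1) = 1 :=
      ⟨N, fun x _ => by rw [pow_succ, ← hN, pow_mul, pow_card_eq_one', one_pow]⟩
    have e1 := Nat.find_spec ex
    rcases e2 : Nat.find ex with _ | i
    · rw [e2] at e1
      exact absurd (by simpa [pow_two] using e1 x0 (hle hx0)) hx0'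
    · have e3 := Nat.find_min ex (m := i) (by omega)
      push Not at e3
      rw [e2] at e1
      exact ⟨i, e1, e3⟩
  have x4 : (x ^ 2 ^ i) ^ 2 ^ 2 = 1 := by rw [← pow_mul, ← pow_add]; exact hj x hx
  have x2 : (x ^ 2 ^ i) ^ 2 ^ 1 ≠ 1 := by rwa [← pow_mul, ← pow_add]
  have nd : ∀ (C : Subgroup T) (c : T → F) (μ : F), Cov k A C c μ →
      ∃ (κ : F) (φ ψ : F ≃+* F), κ ≠ 0 ∧ φ ≠ 1 ∧ ∀ b ∈ A, b ^ 2 ^ 2 = 1 → ∀ u ∈ C,
        e ⁅b, u⁆ = κ * φ (e (b ^ 2 ^ 1)) * ψ (c u) := fun C c μ hC =>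
    (h.eta he hA (pow_mem hx _) x4 x2 hC).resolve_left fun hB => hC.crd.not_le (hmax
      ⟨hC.crd.inv, ⟨fun n hn g => by
        have := mul_mem (hC.le (hC.cen n hn g)) hn
        rwa [commutatorElement_def, inv_mul_cancel_right] at this⟩,
        h.cov_comm he hA hj hx hx' hC hB⟩ hC.le)
  have b1 : ∀ (C : Subgroup T) (c : T → F) (μ : F), Cov k A C c μ → ∀ u ∈ C, u ∉ A → ∀ a ∈ A,
      Commute a u → a * a = 1 := fun C c μ hC u hu hu' a ha hau => desc (fun m hm => by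
    obtain ⟨κ, φ, ψ, e1, -, e3⟩ := nd C c μ hC
    have e4 : (a ^ 2 ^ m) ^ 2 ^ 2 = 1 := by rwa [← pow_mul, ← pow_add]
    have := e3 _ (pow_mem ha _) e4 u hu
    rw [commutatorElement_eq_one_iff_commute.2 (hau.pow_left _), he.one, eq_comm, mul_eq_zero,
      mul_eq_zero, map_eq_zero, map_eq_zero, hC.crd.ker u hu, or_iff_left hu', or_iff_right e1] at this
    rw [pow_add, pow_mul]
    exact h.zeroZ he (sq_pow e4) this) (hj a ha)
  have b2 : ∀ (C : Subgroup T) (c : T → F) (μ : F), Cov k A C c μ → ∀ u ∈ C, u ∉ A →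
      u * u ∈ h.Z := fun C c μ hC u hu hu' =>
    b1 C c μ hC u hu hu' _ (hC.crd.sq hu) ((Commute.refl u).mul_left (Commute.refl u))
  obtain rfl : i = 0 := by
    by_contra hi
    obtain ⟨i, rfl⟩ := Nat.exists_eq_succ_of_ne_zero hi
    obtain ⟨C, c, μ, hC, -⟩ := h.exists_cov hA.inv (H := ⊤) (fun _ _ => trivial) le_top hT
    obtain ⟨u, hu, hu'⟩ := SetLike.not_le_iff_exists.1 hC.crd.not_le
    obtain ⟨κ, φ, ψ, -, e2, e3⟩ := nd C c μ hC
    have c1 : ∀ y ∈ A, e ((y ^ 2 ^ (i + 1)) ^ 2 ^ 1) =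
        κ * ψ (c u) * φ (e ((y ^ 2 ^ (i + 1)) ^ 2 ^ 1)) := fun y hy => by
      have ha := pow_mem hy (2 ^ i)
      have d1 := b2 C c μ hC _ (mul_mem (hC.le ha) hu) (mt (mul_mem_cancel_left ha).1 hu')
      have d2 := mul_mem d1 (inv_mem (b2 C c μ hC u hu hu'))
      rw [mul_right_comm, ← e3 _ (pow_mem hy _) (by rw [← pow_mul, ← pow_add]; exact hj y hy) u hu,
        pow_succ 2 i, pow_mul y]
      generalize y ^ 2 ^ i = a at *
      have d3 : a * (u * a * u⁻¹) * (a * (u * a * u⁻¹)) = 1 := by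
        rw [← d2]; group
      rw [(hA.comm _ (hA.nor.conj_mem a ha u) a ha).mul_mul_mul_comm] at d3
      congr 1
      rw [pow_one, pow_two, pow_two]
      nth_rewrite 2 [eq_inv_of_mul_eq_one_left d3]
      rw [commutatorElement_def]; group
    have c2 : e ((x ^ 2 ^ (i + 1)) ^ 2 ^ 1) ≠ 0 := fun e1 => x2 (h.zeroZ he (sq_pow x4) e1)
    have c3 := c1 _ (hA.inv x hx)
    rw [← map_pow k, ← map_pow k, he.act _ (sq_pow x4)] at c3
    exact he.ne1 (mul_left_eq_self₀.1 (div_inj h.prime e2 (mul_ne_zero he.ne0 c2) c2 c3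
      (c1 x hx)) |>.resolve_right c2)
  have aZ : ∀ a ∈ A, a * a ∈ h.Z := fun a ha => by
    rw [h.memZ, ← hj a ha, show 2 ^ (0 + 2) = 2 + 2 from rfl, pow_add, pow_two]
  have cZ : ∀ a ∈ A, ∀ g : T, ⁅a, g⁆ ∈ h.Z := fun a ha g => by
    rw [h.memZ, ← hA.cm_mul ha ha]
    exact commutatorElement_eq_one_iff_commute.2 (h.cen _ (aZ a ha) g)
  have cZ' : ∀ a ∈ A, ∀ g : T, ⁅g, a⁆ ∈ h.Z := fun a ha g => by
    rw [← commutatorElement_inv]; exact inv_mem (cZ a ha g)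
  have sq : ∀ g : T, g * g ∈ A := fun g => by
    have d1 : Subgroup.centralizer (A : Set T) ≤ A := by
      by_contra e1
      obtain ⟨C, c, μ, hC, d2⟩ := h.exists_cov hA.inv (H := Subgroup.centralizer (A : Set T))
        (fun y hy a ha => by
          obtain ⟨a, ha', rfl⟩ := h.surj_inv hA.inv ha
          rw [← map_mul, ← map_mul, hy a ha']) (fun y hy a ha => hA.comm a ha y hy) e1
      obtain ⟨u, hu, hu'⟩ := SetLike.not_le_iff_exists.1 hC.crd.not_le
      exact hx0' (b1 C c μ hC u hu hu' x0 (hle hx0) (d2 hu x0 (hle hx0)))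
    refine d1 fun a ha => commutatorElement_eq_one_iff_commute.1 ?_
    rw [cm_mul_right, h.conj_eq (cZ a ha g)]
    exact cZ a ha g
  have b3 : ∀ (C : Subgroup T) (c : T → F) (μ : F), Cov k A C c μ → ∀ u ∈ C, u * u ∈ h.Z :=
    fun C c μ hC u hu => by
      by_cases hu' : u ∈ A
      · exact aZ u hu'
      · exact b2 C c μ hC u hu hu'
  have b4 : ∀ u v : T, u * u ∈ h.Z → ⁅⁅u, v⁆, u⁆ = ⁅u, v⁆ ^ 2 ^ 1 := fun u v hu => by
    have := commutatorElement_eq_one_iff_commute.2 (h.cen _ hu v)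
    rw [cm_mul_left, mul_eq_one_iff_inv_eq] at this
    generalize ⁅u, v⁆ = d at *
    rw [pow_one, pow_two]
    nth_rewrite 3 [← this]
    rw [commutatorElement_def]; group
  have b5 : ∀ (C : Subgroup T) (c : T → F) (μ : F), Cov k A C c μ → ∀ (C' : Subgroup T)
      (c' : T → F) (μ' : F), Cov k A C' c' μ' → ∀ u ∈ C, ∀ v ∈ C', ⁅u, v⁆ ∈ h.Z := by
    intro C c μ hC C' c' μ' hC' u hu v hv
    obtain ⟨κ, φ, ψ, -, -, e3⟩ := nd C c μ hC
    obtain ⟨κ', φ', ψ', -, e2', e3'⟩ := nd C' c' μ' hC'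
    have d0 : ∀ w : T, ⁅w, v⁆ ∈ A := hC'.cen v hv
    have d1 : ∀ w ∈ C, e (⁅w, v⁆ ^ 2 ^ 1) = κ * φ (e (⁅w, v⁆ ^ 2 ^ 1)) * ψ (c w) := fun w hw => by
      rw [← e3 _ (d0 w) (hj _ (d0 w)) w hw, b4 w v (b3 C c μ hC w hw)]
    have d2 : ∀ w : T, e (⁅w, v⁆ ^ 2 ^ 1) = κ' * ψ' (c' v) * φ' (e (⁅w, v⁆ ^ 2 ^ 1)) := fun w => by
      have := e3' _ (inv_mem (d0 w)) (hj _ (inv_mem (d0 w))) v hv
      rw [commutatorElement_inv, b4 v w (b3 C' c' μ' hC' v hv), ← commutatorElement_inv, inv_pow,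
        he.inv' (sq_pow (hj _ (d0 w))), mul_right_comm] at this
      exact this
    have d3 : ∀ w w' : T, e (⁅w * w', v⁆ ^ 2 ^ 1) = e (⁅w', v⁆ ^ 2 ^ 1) + e (⁅w, v⁆ ^ 2 ^ 1) :=
      fun w w' => by
        rw [cm_mul_left, (hA.comm _ (hA.nor.conj_mem _ (d0 w') w) _ (d0 w)).mul_pow, conj_pow,
          h.conj_eq (sq_pow (hj _ (d0 w'))), he.add _ (sq_pow (hj _ (d0 w'))) _ (sq_pow (hj _ (d0 w)))]
    by_contra e0
    have d4 : e (⁅u, v⁆ ^ 2 ^ 1) ≠ 0 := fun e1 =>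
      e0 (h.memZ'.2 (h.zeroZ he (sq_pow (hj _ (d0 u))) e1))
    have d5 : ∀ w ∈ C, e (⁅w, v⁆ ^ 2 ^ 1) ≠ 0 → c w = c u := fun w hw hw' => by
      have e4 := d1 w hw
      have e5 := d1 u hu
      rw [div_inj h.prime e2' hw' d4 (d2 w) (d2 u)] at e4
      exact ψ.injective (mul_left_cancel₀ (left_ne_zero_of_mul (e5 ▸ d4)) (e4.symm.trans e5))
    have d6 : c u ≠ 0 := fun e1 => d4 (by rw [d1 u hu, e1, map_zero, mul_zero])
    have hw := hC.crd.inv u hu
    by_cases e1 : e (⁅k u, v⁆ ^ 2 ^ 1) = 0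
    · have := d5 _ (mul_mem hu hw) (by rwa [d3, e1, zero_add])
      rw [hC.crd.add u hu _ hw, hC.crd.act u hu, add_eq_left] at this
      exact mul_ne_zero hC.crd.ne0 d6 this
    · have := d5 _ hw e1
      rw [hC.crd.act u hu] at this
      exact hC.crd.ne1 ((mul_left_eq_self₀.1 this).resolve_right d6)
  have H1 := h.top_of_cov hA.inv sq (h.inv_cenZ
    (S := {u | ∃ (C : Subgroup T) (c : T → F) (μ : F), Cov k A C c μ ∧ u ∈ C})
      fun u ⟨C, c, μ, hC, hu⟩ => by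
        obtain ⟨v, hv, e1⟩ := h.surj_inv hC.crd.inv hu
        exact ⟨v, ⟨C, c, μ, hC, hv⟩, e1⟩) (fun a ha u _ => cZ' a ha u)
    fun C' c' μ' hC' v hv u ⟨C, c, μ, hC, hu⟩ => b5 C c μ hC C' c' μ' hC' u hu v hv
  have H2 := h.top_of_cov hA.inv sq (h.inv_cenZ (S := Set.univ)
    (fun u _ => by simpa using k.surjective u)) (fun a ha u _ => cZ' a ha u)
    fun C c μ hC u hu g _ => by
      rw [← commutatorElement_inv]; exact inv_mem (H1 g u ⟨C, c, μ, hC, hu⟩)
  let H : Subgroup T :=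
    { carrier := {x | x * x ∈ h.Z}
      mul_mem' := fun {x y} hx hy => by
        have := mul_mem (mul_mem hx (H2 y x⁻¹ trivial)) hy
        change _ ∈ h.Z
        convert this using 1
        rw [commutatorElement_def]; group
      one_mem' := by change _ ∈ h.Z; simp
      inv_mem' := fun {x} hx => by
        change _ ∈ h.Z
        rw [← mul_inv_rev]; exact inv_mem hx }
  exact h.top_of_cov hA.inv sq (H := H) (fun x hx => by
    change _ ∈ h.Z
    rw [← map_mul]; exact h.invZ _ hx) aZ b3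

end Cfsg.Agent.EPH.Hyp
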