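import Cfsg.Agent.Lib.EPH.SzR
import Cfsg.Agent.Lib.EPB.Zas
import Cfsg.Agent.Lib.EPB.Num

/-! Identification of a Zassenhaus group with a Suzuki group. -/

set_option autoImplicit false

namespace Cfsg.Agent.EPH

open Subgroup Suz

theorem eq_theta {F : Type*} [Field F] {m : ℕ} [SuzF F m] {τ : F ≃+* F}
    (h : ∀ x, τ (τ x) = x ^ 2) (x : F) : τ x = θ x := by
  have := Fact.mk Nat.prime_two
  let := ZMod.algebra F 2
  obtain ⟨i, hi⟩ := FiniteField.exists_forall_apply_eq_pow (ZMod 2) 2 F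
    (AlgEquiv.ofRingEquiv (f := τ) fun x => DFunLike.congr_fun (Subsingleton.elim
      ((τ : F →+* F).comp (algebraMap (ZMod 2) F)) (algebraMap (ZMod 2) F)) x)
  rw [Nat.card_zmod] at hi
  have h1 : ∀ (j : ℕ) (x : F), τ^[2 * j] x = x ^ 2 ^ j := fun j x => by
    induction j with
    | zero => simp
    | succ j ih => rw [mul_add, add_comm, Function.iterate_add_apply, ih, pow_succ, pow_mul]; exact h _
  have h2 : ∀ (j : ℕ) (x : F), τ^[j] x = x ^ 2 ^ (j * i) := fun j x => by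
    induction j with
    | zero => simp
    | succ j ih =>
      rw [Function.iterate_succ_apply', ih, add_mul, one_mul, pow_add, pow_mul x]; exact hi _
  have h3 : ∀ (j : ℕ) (x : F), x ^ 2 ^ ((2 * m + 1) * j) = x := fun j x => by
    induction j with
    | zero => simp
    | succ j ih => rw [mul_add, mul_one, pow_add, pow_mul, ih, pow_q]
  rw [θ_def, ← h1, show 2 * (m + 1) = 2 * m + 1 + 1 by ring, Function.iterate_succ_apply', h2, h3]

theorem szD_suz {F : Type*} [Field F] {m : ℕ} [SuzF F m] {τ : F ≃+* F} (h : ∀ x, τ x = θ x) :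
    SzD (G := G F m) τ 1 u (hHom F) w := by
  refine ⟨⟨?_, fun a b c d => by rw [h, u_mul_u], fun μ a b => by rw [h]; exact hh_mul_u μ a b,
    w_mul_w, w_mul_hh, ?_⟩, fun a b μ e => ?_, ?_, ?_, fun g => ?_⟩
  · simp only [h]; exact ⟨nm_injective, nm_surjective⟩
  · rw [u_inv]
    apply mat_injective
    simp only [mat_mul, mat_u, mat_w]
    ext i j; fin_cases i <;> fin_cases j <;>
      simp [uM, wM, Matrix.mul_apply, Fin.sum_univ_four, ff] <;> grind
  · exact u_mul_hh_inj.1 (e.trans (by simp))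
  · rintro a b μ ⟨c, d, e⟩
    have e1 : (w * u a b * w : G F m) • (inf : Pt F m) = inf := mem_B_iff.2 ⟨c, d, μ, e⟩
    rw [mul_smul, mul_smul, w_smul_inf, u_smul_zero, smul_eq_iff_eq_inv_smul, w_inv, w_smul_inf] at e1
    simpa using e1
  · rintro μ ⟨c, d, e⟩
    exact w_not_mem_B (mem_B_iff.2 ⟨c, d, μ, e⟩)
  · by_cases hg : g ∈ B F
    · obtain ⟨a, b, μ, e⟩ := mem_B_iff.1 hg
      exact Or.inl ⟨μ, a, b, e⟩
    · exact Or.inr (bruhat hg)

theorem szD_of_zas {G : Type*} [Group G] [Finite G] {T : Subgroup G} {n : ℕ} {k s : G}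
    (Z : EPB.Zas G T n k s) (hT : Nat.card T = (2 ^ n) ^ 2) (hna : ¬ IsMulCommutative T) {z r : G}
    (hr : r ∈ T) (hrz : r * r = z) (hz1 : z ≠ 1) (hs : s * z * s = r⁻¹ * s * r)
    (F : Type*) [Field F] [Finite F] [CharP F 2] (hF : Nat.card F = 2 ^ n) :
    ∃ (τ : F ≃+* F) (x : F → F → G) (h : Fˣ →* G), SzD τ 1 x h s := by
  have hk : k ^ (2 ^ n - 1) = 1 := by rw [← Z.ord_k, pow_orderOf_eq_one]
  have hp : (Nat.card F - 1).Prime := hF ▸ Z.prime
  have f1 : ∀ t ∈ T, t ∈ zpowers k → t = 1 := fun t ht ht' => by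
    obtain ⟨j, hj⟩ := Z.pg ⟨t, ht⟩
    exact orderOf_eq_one_iff.1 (Nat.eq_one_of_dvd_coprimes
      ((Nat.coprime_two_left.2 Z.odd_k).pow_left j)
      (orderOf_dvd_of_pow_eq_one (congrArg Subtype.val hj)) (orderOf_dvd_of_mem_zpowers ht'))
  obtain ⟨θ, l, x, θ1, l0, l1, n1, hb, law, act⟩ := coords Z.pg
    (T.normalizerMonoidHom ⟨k, Z.k_mem⟩) Z.prime (by
      rw [← map_pow, ← map_one T.normalizerMonoidHom]; exact congrArg _ (Subtype.ext hk))
    (fun t e => Subtype.ext (f1 t t.2 (Z.cent_k 1 (fun e1 => Z.prime.ne_one (by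
      rw [← Z.ord_k, ← pow_one k, e1, orderOf_one])) t (by
        rw [pow_one]; exact (mul_inv_eq_iff_eq_mul.1 (congrArg Subtype.val e)).symm))))
    (fun t ht => mem_center_iff.2 fun g =>
      Subtype.ext (Z.inv_cent t t.2 (congrArg Subtype.val ht) g g.2).symm) Z.card_inv hT hna F hF
  obtain ⟨⟨α, b0⟩, hα⟩ := hb.2 ⟨r, hr⟩
  have hα' : (x α b0 : G) = r := congrArg Subtype.val hα
  have x0 : x 0 0 = 1 := by simpa using law 0 0 0 0
  have hz : z = x 0 (α * θ α) := by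
    have := congrArg Subtype.val (law α b0 α b0)
    rw [add_self, add_self, zero_add] at this
    rw [← this, ← hrz, ← hα']; rfl
  have α0 : α ≠ 0 := fun e => hz1 (by rw [hz, e, zero_mul, x0]; rfl)
  have α1 : α * θ α ≠ 0 := mul_ne_zero α0 ((map_ne_zero θ).2 α0)
  have L0 : θ l ≠ 0 := (map_ne_zero θ).2 l0
  have L1 : θ l ≠ 1 := fun e => l1 (θ.injective (e.trans (map_one θ).symm))
  let L := Units.mk0 _ L0
  have hL : ∀ μ : Fˣ, ∃ i : ℕ, μ = L ^ i := fun μ => by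
    obtain ⟨i, hi⟩ := gen hp L0 L1 μ.ne_zero
    exact ⟨i, Units.ext (by simpa [L] using hi)⟩
  have hL' : ∀ μ : Fˣ, μ ∈ zpowers L := fun μ => by
    obtain ⟨i, rfl⟩ := hL μ
    exact npow_mem_zpowers L i
  have oL : orderOf L = orderOf k := by
    rw [orderOf_eq_card_of_forall_mem_zpowers hL', Nat.card_units, hF, Z.ord_k]
  let h : Fˣ →* G := monoidHomOfForallMemZpowers hL' oL.symm.dvd
  have hh : ∀ i : ℕ, h (L ^ i) = k ^ i := fun i => by
    rw [map_pow, monoidHomOfForallMemZpowers_apply_gen]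
  let y : F → F → G := fun a b => x (α * θ.symm a) (α * θ α * b)
  have yT : ∀ a b, y a b ∈ T := fun a b => (x _ _).2
  have ys : ∀ t ∈ T, ∃ a b, t = y a b := fun t ht => by
    obtain ⟨⟨a, b⟩, e⟩ := hb.2 ⟨t, ht⟩
    exact ⟨θ (α⁻¹ * a), (α * θ α)⁻¹ * b, by
      simp only [y, θ.symm_apply_apply, mul_inv_cancel_left₀ α0, mul_inv_cancel_left₀ α1]
      exact (congrArg Subtype.val e).symm⟩
  have y1 : ∀ a b, y a b = 1 → a = 0 ∧ b = 0 := fun a b e => by
    have := hb.1 (a₁ := (α * θ.symm a, α * θ α * b)) (a₂ := (0, 0)) ((Subtype.ext e).trans x0.symm)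
    simpa [α0] using this
  have hN : ∀ g μ, Bm y h g μ → g ∈ normalizer (T : Set G) := by
    rintro _ μ ⟨a, b, rfl⟩
    obtain ⟨i, rfl⟩ := hL μ
    exact mul_mem (le_normalizer (yT a b)) (hh i ▸ pow_mem Z.k_mem i)
  have D : SzD θ.symm ((α * θ α)⁻¹ * b0) y h s := by
    refine ⟨⟨Finite.surjective_iff_bijective.1 fun c => ?_, fun a b c d => ?_, fun μ a b => ?_,
      Z.s_sq, fun μ => ?_, ?_⟩, fun a b μ e => ?_, fun a b μ e => ?_,
      fun μ e => Z.s_not (hN _ _ e), fun g => ?_⟩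
    · by_cases hc : c = 0
      · exact ⟨0, by simp [hc]⟩
      · obtain ⟨i, rfl⟩ := gen hp (mul_ne_zero l0 L0) n1 hc
        exact ⟨θ l ^ i, by simp [mul_pow, mul_comm]⟩
    · refine (congrArg Subtype.val (law _ _ _ _)).trans ?_
      simp only [y]
      congr 2
      · rw [map_add, mul_add]
      · rw [map_mul, θ.apply_symm_apply]; ring
    · obtain ⟨i, rfl⟩ := hL μ
      induction i with
      | zero => simp
      | succ i ih =>
        have e := mul_inv_eq_iff_eq_mul.1 (congrArg Subtype.val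
          (act (α * θ.symm ((L ^ i : Fˣ) * a)) (α * θ α * ((L ^ i : Fˣ) * θ.symm (L ^ i : Fˣ) * b))))
        rw [pow_succ', map_mul, mul_assoc, ih, ← mul_assoc, ← mul_assoc, ← pow_one L, hh, pow_one,
          pow_one]
        refine congrArg (· * _) (e.trans ?_)
        simp only [y, L, Units.val_mul, Units.val_mk0, map_mul, θ.symm_apply_apply]
        congr 3 <;> ring
    · obtain ⟨i, rfl⟩ := hL μ
      rw [map_inv, hh, ← Z.s_pow, mul_assoc, Z.s_sq, mul_one]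
    · simp only [y, map_zero, map_one, mul_one, mul_zero, mul_inv_cancel_left₀ α1]
      rw [← hz, hα', hs]
    · obtain ⟨i, rfl⟩ := hL μ
      rw [hh] at e
      have e1 := f1 _ (yT a b) (eq_inv_of_mul_eq_one_left e ▸ inv_mem (npow_mem_zpowers k i))
      rw [e1, one_mul, ← orderOf_dvd_iff_pow_eq_one, ← oL, orderOf_dvd_iff_pow_eq_one] at e
      exact ⟨(y1 a b e1).1, (y1 a b e1).2, e⟩
    · by_contra e1
      exact Z.conj_not (yT a b) (fun e2 => e1 (y1 a b e2)) (hN _ _ e)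
    · by_cases hg : g ∈ normalizer (T : Set G)
      · obtain ⟨t, ht, i, rfl⟩ := Z.norm g hg
        obtain ⟨a, b, rfl⟩ := ys t ht
        exact Or.inl ⟨L ^ i, a, b, by rw [hh]⟩
      · obtain ⟨t, ht, i, t', ht', rfl⟩ := Z.bruhat g hg
        obtain ⟨a, b, rfl⟩ := ys t ht
        obtain ⟨c, d, rfl⟩ := ys t' ht'
        exact Or.inr ⟨a, b, L ^ i, c, d, by rw [hh]⟩
  rcases D.beta hp (fun e => θ1 (by rw [← θ.symm_symm, e]; rfl)) with e | e <;> rw [e] at D
  · exact ⟨_, _, _, D.swap⟩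
  · exact ⟨_, _, _, D⟩

theorem iso_suz {G : Type*} [Group G] [Finite G] {T : Subgroup G} {n : ℕ} {k s : G}
    (Z : EPB.Zas G T n k s) (hT : Nat.card T = (2 ^ n) ^ 2) (hna : ¬ IsMulCommutative T) {z r : G}
    (hr : r ∈ T) (hrz : r * r = z) (hz1 : z ≠ 1) (hs : s * z * s = r⁻¹ * s * r) (hodd : Odd n) :
    ∃ (F : Type) (_ : Field F) (_ : Fintype F) (m : ℕ) (_ : SuzF F m), Nonempty (G ≃* Suz.G F m) := by
  have := Fact.mk Nat.prime_two
  obtain ⟨m, rfl⟩ := hodd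
  have hF := GaloisField.card 2 (2 * m + 1) (by omega)
  have : SuzF (GaloisField 2 (2 * m + 1)) m := ⟨inferInstance, hF, by have := Z.two_le; omega⟩
  obtain ⟨τ, x, h, D⟩ := szD_of_zas Z hT hna hr hrz hz1 hs _ hF
  exact ⟨_, _, Fintype.ofFinite _, m, this, D.iso (szD_suz (eq_theta D.frob))⟩

theorem sz_iso {G : Type*} [Group G] [Finite G] {T : Subgroup G} {n : ℕ} {k s : G}
    (Z : EPB.Zas G T n k s) (hT : Nat.card T = (2 ^ n) ^ 2) (hna : ¬ IsMulCommutative T) {z r : G}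
    (hr : r ∈ T) (hrz : r * r = z) (hz1 : z ≠ 1) (hs : s * z * s = r⁻¹ * s * r) (hodd : Odd n)
    (h : EPO.EP G) : ∃ (F : Type) (_ : Field F) (_ : Fintype F),
      (Fintype.card F = 8 ∧ Nonempty (G ≃* ↥(Cfsg.Lie.Sz F 4))) ∨
        (Fintype.card F = 32 ∧ Nonempty (G ≃* ↥(Cfsg.Lie.Sz F 8))) := by
  obtain ⟨F, _, _, m, _, ⟨e⟩⟩ := iso_suz Z hT hna hr hrz hz1 hs hodd
  exact EPB.sz_num h e

end Cfsg.Agent.EPH
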