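import Cfsg.Agent.Lib.EPH.Coord

/-! Generators and relations of Suzuki type. -/

set_option autoImplicit false

namespace Cfsg.Agent.EPH

variable {F : Type*} [Field F] [CharP F 2] {G G' : Type*} [Group G] [Group G']

/-- the relations -/
structure SzR (θ : F ≃+* F) (β : F) (x : F → F → G) (h : Fˣ →* G) (s : G) : Prop where
  nb : Function.Bijective fun a => a * θ a
  law : ∀ a b c d, x a b * x c d = x (a + c) (b + d + θ a * c)
  act : ∀ (μ : Fˣ) a b, h μ * x a b = x (μ * a) (μ * θ μ * b) * h μ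
  ss : s * s = 1
  sh : ∀ μ, s * h μ = h μ⁻¹ * s
  rel : s * x 0 1 * s = (x 1 β)⁻¹ * s * x 1 β

/-- Borel elements -/
def Bm (x : F → F → G) (h : Fˣ →* G) (g : G) (μ : Fˣ) : Prop := ∃ a b, g = x a b * h μ

/-- faithful data -/
structure SzD (θ : F ≃+* F) (β : F) (x : F → F → G) (h : Fˣ →* G) (s : G) : Prop
    extends SzR θ β x h s where
  inj : ∀ a b μ, x a b * h μ = 1 → a = 0 ∧ b = 0 ∧ μ = 1
  ti : ∀ a b μ, Bm x h (s * x a b * s) μ → a = 0 ∧ b = 0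
  ne : ∀ μ, ¬ Bm x h s μ
  gen : ∀ g, (∃ μ, Bm x h g μ) ∨ ∃ a b μ c d, g = x a b * h μ * s * x c d

namespace SzR

variable {θ : F ≃+* F} {β : F} {x : F → F → G} {h : Fˣ →* G} {s : G} (D : SzR θ β x h s)
include D

theorem zero : x 0 0 = 1 := by simpa using D.law 0 0 0 0

theorem inv (a b : F) : (x a b)⁻¹ = x a (b + a * θ a) := by
  rw [inv_eq_iff_mul_eq_one, D.law, ← D.zero]
  congr 1 <;> grind

theorem bx (a b : F) : Bm x h (x a b) 1 := ⟨a, b, by simp⟩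

theorem bh (μ : Fˣ) : Bm x h (h μ) μ := ⟨0, 0, by simp [D.zero]⟩

theorem bmul {g g' : G} {μ ν : Fˣ} (hg : Bm x h g μ) (hg' : Bm x h g' ν) :
    Bm x h (g * g') (μ * ν) := by
  obtain ⟨a, b, rfl⟩ := hg
  obtain ⟨c, d, rfl⟩ := hg'
  exact ⟨_, _, by rw [mul_assoc, ← mul_assoc (h μ), D.act, mul_assoc, ← map_mul, ← mul_assoc, D.law]⟩

theorem binv {g : G} {μ : Fˣ} (hg : Bm x h g μ) : Bm x h g⁻¹ μ⁻¹ := by
  obtain ⟨a, b, rfl⟩ := hg
  simpa [D.inv] using D.bmul (D.bh μ⁻¹) (D.bx a (b + a * θ a))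

theorem hsh (μ : Fˣ) : h μ * s * h μ = s := by
  rw [mul_assoc, D.sh, map_inv, mul_inv_cancel_left]

theorem sinv : s⁻¹ = s := inv_eq_of_mul_eq_one_right D.ss

theorem ssm (g : G) : s * (s * g) = g := by rw [← mul_assoc, D.ss, one_mul]

theorem baseZ (a : Fˣ) : s * x 0 (a * θ a : F)⁻¹ * s =
    (x a (a * θ a * β))⁻¹ * h (a * a) * s * x a (a * θ a * β) := by
  have e1 : x 0 (a * θ a : F)⁻¹ = h a⁻¹ * x 0 1 * h a := by
    rw [D.act]; simp [mul_comm]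
  have e2 : x a (a * θ a * β) = h a * x 1 β * (h a)⁻¹ := by
    rw [D.act]; simp
  have e3 : h a * s = s * (h a)⁻¹ := by rw [← map_inv, D.sh, inv_inv]
  calc _ = s * h a⁻¹ * s * (s * x 0 1 * s) * (s * h a * s) := by
        simp only [e1, mul_assoc, D.ssm]
    _ = _ := by
        rw [D.rel, D.sh, D.sh, mul_assoc _ s s, mul_assoc _ s s, D.ss, e2, map_mul,
          mul_assoc _ (h a * h a), mul_assoc (h a) (h a), e3, inv_inv, map_inv]
        group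

theorem baseR {a b c : Fˣ} (e : (a * θ a : F)⁻¹ + (b * θ b : F)⁻¹ = (c * θ c : F)⁻¹) :
    s * (x a (a * θ a * β) * (x b (b * θ b * β))⁻¹) * s =
      (h (a * a))⁻¹ * x a (a * θ a * β) * (x c (c * θ c * β))⁻¹ * h (c * c) * s *
        (x c (c * θ c * β) * (x b (b * θ b * β))⁻¹ * h (b * b)) := by
  have e1 : s * x 0 (c * θ c : F)⁻¹ * s =
      s * x 0 (a * θ a : F)⁻¹ * s * (s * x 0 (b * θ b : F)⁻¹ * s) := by
    nth_rewrite 4 [← D.sinv]
    rw [← e, show x 0 ((a * θ a : F)⁻¹ + (b * θ b : F)⁻¹) =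
      x 0 (a * θ a : F)⁻¹ * x 0 (b * θ b : F)⁻¹ by simp [D.law]]
    group
  rw [D.baseZ, D.baseZ, D.baseZ] at e1
  nth_rewrite 2 [← D.hsh (b * b)]
  generalize x a (a * θ a * β) = ra, x b (b * θ b * β) = rb, x c (c * θ c * β) = rc at *
  calc _ = (h (a * a))⁻¹ * ra * (ra⁻¹ * h (a * a) * s * ra * (rb⁻¹ * h (b * b) * s * rb)) *
        (rb⁻¹ * h (b * b)) := by group
    _ = _ := by rw [← e1]; group

theorem baseI (a : Fˣ) : s * (x a (a * θ a * β))⁻¹ * s =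
    x 0 (a * θ a : F)⁻¹ * s * ((x a (a * θ a * β))⁻¹ * h (a * a)) := by
  have e1 := D.baseZ a
  nth_rewrite 2 [← D.hsh (a * a)]
  calc _ = s * (s * x 0 (a * θ a : F)⁻¹ * s) * ((x a (a * θ a * β))⁻¹ * h (a * a)) := by
        rw [e1]; group
    _ = _ := by rw [← mul_assoc, ← mul_assoc, ← mul_assoc, D.ss, one_mul, mul_assoc]

theorem unit {y : F} (hy : y ≠ 0) : ∃ m : Fˣ, m * θ m = y := by
  obtain ⟨m, hm⟩ := D.nb.2 y
  exact ⟨Units.mk0 m fun e => hy (by simpa [e] using hm.symm), hm⟩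

theorem nne {a b : F} (e : a ≠ b) : a * θ a + b * θ b ≠ 0 := fun e1 =>
  e (D.nb.1 (by simpa using CharTwo.add_eq_zero.1 e1))

end SzR

/-- `t` lies in the big cell, with weight `m ^ (-2)` -/
def Wt (x : F → F → G) (h : Fˣ →* G) (s t : G) (m : Fˣ) : Prop :=
  ∃ b μ c ν, Bm x h b μ ∧ Bm x h c ν ∧ s * t * s = b * s * c ∧ ν = μ * (m * m)

theorem SzR.key {θ : F ≃+* F} {x : F → F → G} {h : Fˣ →* G} {s : G} (D : SzR θ 1 x h s) {y : F}
    (hy : y ≠ 0) (a : F) :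
    ∃ m : Fˣ, m * θ m = (y + a) * θ (y + a) + a * θ a ∧ Wt x h s (x y (y * θ a)) m := by
  have i1 : ∀ a : Fˣ, Wt x h s (x a 0) a := fun a => by
    have := D.baseI a
    rw [D.inv, mul_one, add_self] at this
    exact ⟨_, _, _, _, D.bx _ _, D.bmul (D.bx _ _) (D.bh _), this, rfl⟩
  by_cases h0 : a = 0
  · exact ⟨Units.mk0 y hy, by simp [h0], by simpa [h0] using i1 (Units.mk0 y hy)⟩
  by_cases h1 : y + a = 0
  · obtain rfl : y = a := CharTwo.add_eq_zero.1 h1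
    obtain ⟨b, μ, c, ν, e1, e2, e3, rfl⟩ := i1 (Units.mk0 y hy)
    refine ⟨Units.mk0 y hy, by simp [h1], c⁻¹ * h (μ * (μ * (Units.mk0 y hy * Units.mk0 y hy))), _,
      h (μ * (μ * (Units.mk0 y hy * Units.mk0 y hy))) * b⁻¹, _, D.bmul (D.binv e2) (D.bh _),
      D.bmul (D.bh _) (D.binv e1), ?_, by simp [mul_comm μ, mul_assoc]⟩
    have e4 := congrArg (·⁻¹) e3
    simp only [mul_inv_rev, D.sinv, D.inv, Units.val_mk0, zero_add, ← mul_assoc] at e4
    rw [e4]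
    nth_rewrite 1 [← D.hsh (μ * (μ * (Units.mk0 y hy * Units.mk0 y hy)))]
    group
  obtain ⟨m, hm⟩ := D.unit (D.nne (a := y + a) (b := a) (by simpa using hy))
  have := D.baseR (a := Units.mk0 a h0) (b := Units.mk0 _ h1)
    (c := Units.mk0 a h0 * Units.mk0 _ h1 * m⁻¹) (by
      have := (map_ne_zero θ).2 h0
      have := (map_ne_zero θ).2 h1
      have := (map_ne_zero θ).2 m.ne_zero
      simp only [Units.val_mul, Units.val_mk0, Units.val_inv_eq_inv_val, map_mul, map_inv₀]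
      field_simp
      linear_combination -hm)
  refine ⟨m, hm, _, _, _, _, D.bmul (D.bmul (D.bmul (D.binv (D.bh _)) (D.bx _ _))
    (D.binv (D.bx _ _))) (D.bh _), D.bmul (D.bmul (D.bx _ _) (D.binv (D.bx _ _))) (D.bh _),
    Eq.trans ?_ this, ?_⟩
  · rw [D.inv, D.law]
    congr 3 <;> simp only [Units.val_mk0] <;> grind
  · ext; simp; field_simp

theorem SzR.cell {θ : F ≃+* F} {x : F → F → G} {h : Fˣ →* G} {s : G} (D : SzR θ 1 x h s) {a b : F}
    (hab : ¬ (a = 0 ∧ b = 0)) : ∃ m, Wt x h s (x a b) m := by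
  by_cases ha : a = 0
  · obtain ⟨m, hm⟩ := D.unit (inv_ne_zero fun e : b = 0 => hab ⟨ha, e⟩)
    have := D.baseZ m
    rw [hm, inv_inv] at this
    exact ⟨m⁻¹, _, _, _, _, D.bmul (D.binv (D.bx _ _)) (D.bh _), D.bx _ _, ha ▸ this, by
      ext; simp⟩
  · obtain ⟨m, -, hm⟩ := D.key ha (θ.symm (b / a))
    rw [θ.apply_symm_apply, mul_div_cancel₀ _ ha] at hm
    exact ⟨m, hm⟩

/-- the subgroup given by the two cells -/
def SzR.cells {θ : F ≃+* F} {x : F → F → G} {h : Fˣ →* G} {s : G} (D : SzR θ 1 x h s) :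
    Subgroup G where
  carrier := {g | (∃ μ, Bm x h g μ) ∨ ∃ b μ c ν, Bm x h b μ ∧ Bm x h c ν ∧ g = b * s * c}
  one_mem' := Or.inl ⟨1, by simpa using D.bh 1⟩
  inv_mem' := by
    rintro g (⟨μ, hg⟩ | ⟨b, μ, c, ν, hb, hc, rfl⟩)
    · exact Or.inl ⟨_, D.binv hg⟩
    · exact Or.inr ⟨_, _, _, _, D.binv hc, D.binv hb, by simp only [mul_inv_rev, D.sinv, mul_assoc]⟩
  mul_mem' := by
    rintro g g' (⟨μ, hg⟩ | ⟨b, μ, c, ν, hb, hc, rfl⟩) (⟨μ', hg'⟩ | ⟨b', μ', c', ν', hb', hc', rfl⟩)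
    · exact Or.inl ⟨_, D.bmul hg hg'⟩
    · exact Or.inr ⟨_, _, _, _, D.bmul hg hb', hc', by simp only [mul_assoc]⟩
    · exact Or.inr ⟨_, _, _, _, hb, D.bmul hc hg', by simp only [mul_assoc]⟩
    obtain ⟨a, d, e⟩ := D.bmul hc hb'
    have e1 : b * s * c * (b' * s * c') = b * (s * x a d * s) * (h (ν * μ')⁻¹ * c') := by
      calc _ = b * s * (c * b') * s * c' := by simp only [mul_assoc]
        _ = _ := by rw [e, mul_assoc _ _ (h _ * c'), mul_assoc _ s (h _ * c'), ← mul_assoc s (h _),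
          D.sh, inv_inv]; simp only [mul_assoc]
    by_cases had : a = 0 ∧ d = 0
    · rw [had.1, had.2, D.zero, mul_one, D.ss, mul_one] at e1
      exact Or.inl ⟨_, e1 ▸ D.bmul hb (D.bmul (D.bh _) hc')⟩
    · obtain ⟨m, u, κ, v, κ', hu, hv, e2, -⟩ := D.cell had
      exact Or.inr ⟨_, _, _, _, D.bmul hb hu, D.bmul hv (D.bmul (D.bh (ν * μ')⁻¹) hc'), by
        rw [e1, e2]; simp only [mul_assoc]⟩

theorem SzD.bij {θ : F ≃+* F} {β : F} {x : F → F → G} {h : Fˣ →* G} {s : G} (D : SzD θ β x h s)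
    {y : F → F → G'} {h' : Fˣ →* G'} {s' : G'} (E : SzR θ 1 y h' s') (f : G' →* G)
    (f1 : ∀ a b, f (y a b) = x a b) (f2 : ∀ μ, f (h' μ) = h μ) (f3 : f s' = s) :
    Function.Bijective (f.comp E.cells.subtype) := by
  have f4 : ∀ g μ, Bm y h' g μ → Bm x h (f g) μ := by
    rintro _ μ ⟨a, b, rfl⟩
    exact ⟨a, b, by rw [map_mul, f1, f2]⟩
  refine ⟨(injective_iff_map_eq_one _).2 ?_, fun g => ?_⟩
  · rintro ⟨g, ⟨μ, a, b, rfl⟩ | ⟨b, μ, c, ν, hb, hc, rfl⟩⟩ e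
    · obtain ⟨rfl, rfl, rfl⟩ := D.inj a b μ (by rw [← f1, ← f2, ← map_mul]; exact e)
      exact Subtype.ext (by simp [E.zero])
    · have e1 : f b * s * f c = 1 := by rw [← f3, ← map_mul, ← map_mul]; exact e
      have e2 := D.bmul (D.binv (f4 b μ hb)) (D.binv (f4 c ν hc))
      rw [← mul_one (f b)⁻¹, ← e1] at e2
      exact absurd (by simpa [mul_assoc] using e2) (D.ne (μ⁻¹ * ν⁻¹))
  · rcases D.gen g with ⟨μ, a, b, rfl⟩ | ⟨a, b, μ, c, d, rfl⟩
    · exact ⟨⟨_, Or.inl ⟨μ, a, b, rfl⟩⟩, by simp [f1, f2]⟩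
    · exact ⟨⟨_, Or.inr ⟨_, μ, _, 1, ⟨a, b, rfl⟩, E.bx c d, rfl⟩⟩, by simp [f1, f2, f3]⟩

theorem SzD.iso {θ : F ≃+* F} {x : F → F → G} {h : Fˣ →* G} {s : G} (D : SzD θ 1 x h s)
    {y : F → F → G'} {h' : Fˣ →* G'} {s' : G'} (E : SzD θ 1 y h' s') : Nonempty (G ≃* G') := by
  have P : SzR θ 1 (fun a b => (x a b, y a b)) (h.prod h') (s, s') :=
    ⟨D.nb, fun a b c d => Prod.ext (D.law a b c d) (E.law a b c d),
      fun μ a b => Prod.ext (D.act μ a b) (E.act μ a b), Prod.ext D.ss E.ss,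
      fun μ => Prod.ext (D.sh μ) (E.sh μ), Prod.ext D.rel E.rel⟩
  exact ⟨(MulEquiv.ofBijective _ (D.bij P (MonoidHom.fst G G') (fun _ _ => rfl) (fun _ => rfl)
    rfl)).symm.trans (MulEquiv.ofBijective _ (E.bij P (MonoidHom.snd G G') (fun _ _ => rfl)
      (fun _ => rfl) rfl))⟩

namespace SzD

variable {θ : F ≃+* F} {β : F} {x : F → F → G} {h : Fˣ →* G} {s : G}

theorem wt (D : SzD θ β x h s) {g : G} {μ ν : Fˣ} (e1 : Bm x h g μ) (e2 : Bm x h g ν) : μ = ν := by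
  obtain ⟨a, b, e⟩ := D.bmul e1 (D.binv e2)
  rw [mul_inv_cancel] at e
  exact mul_inv_eq_one.1 (D.inj a b _ e.symm).2.2

theorem uniq (D : SzD θ β x h s) {b c b' c' : G} {μ ν μ' ν' : Fˣ} (hb : Bm x h b μ)
    (hc : Bm x h c ν) (hb' : Bm x h b' μ') (hc' : Bm x h c' ν') (e : b * s * c = b' * s * c') :
    b' = b * h (ν * ν'⁻¹)⁻¹ ∧ μ * ν' = μ' * ν := by
  obtain ⟨a, d, e1⟩ := D.bmul hc (D.binv hc')
  have e2 : s * x a d * s = b⁻¹ * b' * h (ν * ν'⁻¹) := by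
    nth_rewrite 2 [← D.hsh (ν * ν'⁻¹)]
    calc _ = b⁻¹ * (b * s * (x a d * h (ν * ν'⁻¹)) * c') * c'⁻¹ * s * h (ν * ν'⁻¹) := by group
      _ = _ := by rw [← e1, mul_assoc (b * s), inv_mul_cancel_right, e]; simp [mul_assoc, D.ssm]
  have e3 := D.bmul (D.bmul (D.binv hb) hb') (D.bh (ν * ν'⁻¹))
  obtain ⟨rfl, rfl⟩ := D.ti a d _ (e2 ▸ e3)
  rw [D.zero, one_mul] at e1
  rw [← e2, D.zero, mul_one, D.ss, ← map_one h] at e3
  refine ⟨?_, ?_⟩
  · rw [eq_mul_of_mul_inv_eq e1, ← mul_assoc, mul_left_inj, mul_assoc, D.sh, ← mul_assoc,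
      mul_left_inj] at e
    exact e.symm
  have := congrArg (fun t => μ * ν' * t) (D.wt (D.bh 1) e3)
  simpa [mul_assoc, mul_left_comm ν', mul_comm ν'] using this

theorem xinj (D : SzD θ β x h s) {a b c d : F} {μ ν : Fˣ} (e : x a b * h μ = x c d * h ν) :
    a = c := by
  have := D.inj (c + a) (d + c * θ c + b + θ c * a) (μ * ν⁻¹) (by
    rw [← D.law, ← D.inv, map_mul, mul_assoc, ← mul_assoc (x a b), e]; simp)
  exact (CharTwo.add_eq_zero.1 this.1).symm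

theorem beta [Finite F] (D : SzD θ β x h s) (hp : (Nat.card F - 1).Prime) (hθ : θ ≠ 1) :
    β = 0 ∨ β = 1 := by
  by_contra e
  rw [not_or] at e
  have e1 : β + 1 ≠ 0 := fun e1 => e.2 (CharTwo.add_eq_zero.1 e1)
  obtain ⟨b, hb⟩ : ∃ b : Fˣ, θ b * β = b * (β + 1) := by
    obtain ⟨b, hb⟩ := Finite.surjective_of_injective (f := fun b : Fˣ =>
      Units.mk0 (θ b / b) (div_ne_zero ((map_ne_zero θ).2 b.ne_zero) b.ne_zero)) (fun a b e => by
        have e2 : θ a / a = θ b / b := congrArg Units.val e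
        have := (map_ne_zero θ).2 a.ne_zero
        have := (map_ne_zero θ).2 b.ne_zero
        exact Units.ext (div_inj hp hθ (k := (θ a / a)⁻¹) a.ne_zero b.ne_zero (by field_simp)
          (by rw [e2]; field_simp))) (Units.mk0 _ (div_ne_zero e1 e.1))
    exact ⟨b, (div_eq_div_iff b.ne_zero e.1).1 (congrArg Units.val hb) |>.trans (mul_comm _ _)⟩
  have h1 : (1 : F) + b ≠ 0 := fun e2 => by
    rw [← CharTwo.add_eq_zero.1 e2] at hb
    simp at hb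
  obtain ⟨c, hc⟩ := D.unit (inv_ne_zero (a := ((1 + b) * θ (1 + b))⁻¹ + (b * θ b : F)⁻¹) (by
    simpa [mul_comm] using D.nne (a := (1 + b : F)⁻¹) (b := (b : F)⁻¹) (by simp)))
  have h2 := D.baseR (a := b) (b := Units.mk0 _ h1) (c := c) (by rw [hc, inv_inv, add_comm, Units.val_mk0])
  have h3 := D.baseI 1
  rw [show x b (b * θ b * β) * (x (Units.mk0 _ h1) (Units.mk0 _ h1 * θ (Units.mk0 _ h1) * β))⁻¹ =
    (x (1 : Fˣ) ((1 : Fˣ) * θ (1 : Fˣ) * β))⁻¹ by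
      rw [D.inv, D.inv, D.law]
      congr 1 <;> simp only [Units.val_mk0, Units.val_one, map_add, map_one] <;> grind, h3] at h2
  have h4 := (D.uniq (D.bx _ _) (D.bmul (D.binv (D.bx _ _)) (D.bh _))
    (D.bmul (D.bmul (D.bmul (D.binv (D.bh _)) (D.bx _ _)) (D.binv (D.bx _ _))) (D.bh _))
    (D.bmul (D.bmul (D.bx _ _) (D.binv (D.bx _ _))) (D.bh _)) h2).1
  rw [mul_assoc _ (x b _), D.inv, D.law, ← map_inv, D.act, mul_assoc, ← map_mul] at h4
  have h5 := CharTwo.add_eq_zero.1 ((mul_eq_zero.1 (D.xinj h4)).resolve_left (Units.ne_zero _))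
  rw [← h5, ← inv_inj, inv_inv, right_eq_add, inv_eq_zero] at hc
  exact mul_ne_zero h1 ((map_ne_zero θ).2 h1) hc

theorem swap (D : SzD θ 0 x h s) :
    SzD θ.symm 1 (fun a b => x (θ.symm a) (b + θ.symm a * a))
      (h.comp (Units.map (θ.symm : F →* F))) s := by
  have e1 : ∀ g μ, Bm x h g μ → Bm (fun a b => x (θ.symm a) (b + θ.symm a * a))
      (h.comp (Units.map (θ.symm : F →* F))) g (Units.map (θ : F →* F) μ) := by
    rintro _ μ ⟨a, b, rfl⟩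
    have e : Units.map (θ.symm : F →* F) (Units.map (θ : F →* F) μ) = μ := by ext; simp
    exact ⟨θ a, b + a * θ a, by simp [add_assoc, add_self, e]⟩
  have e2 : ∀ g μ, Bm (fun a b => x (θ.symm a) (b + θ.symm a * a))
      (h.comp (Units.map (θ.symm : F →* F))) g μ → Bm x h g (Units.map (θ.symm : F →* F) μ) :=
    fun g μ ⟨a, b, e⟩ => ⟨_, _, e⟩
  refine ⟨⟨?_, fun a b c d => ?_, fun μ a b => ?_, D.ss, fun μ => ?_, ?_⟩, fun a b μ e => ?_,
    fun a b μ e => ?_, fun μ e => D.ne _ (e2 _ _ e), fun g => ?_⟩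
  · convert D.nb.comp θ.symm.bijective using 2
    simp [mul_comm]
  · rw [D.law]
    congr 1
    · rw [map_add]
    · simp only [map_add, RingEquiv.apply_symm_apply]; grind
  · rw [MonoidHom.comp_apply, D.act]
    congr 2
    · simp
    · simp; ring
  · simp only [MonoidHom.comp_apply, D.sh, map_inv]
  · simpa [add_self] using D.rel
  · obtain ⟨e3, e4, e5⟩ := D.inj _ _ _ e
    have e6 : a = 0 := by simpa using e3
    exact ⟨e6, by simpa [e6] using e4, Units.ext (by simpa using congrArg Units.val e5)⟩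
  · obtain ⟨e3, e4⟩ := D.ti _ _ _ (e2 _ _ e)
    have e6 : a = 0 := by simpa using e3
    exact ⟨e6, by simpa [e6] using e4⟩
  · rcases D.gen g with ⟨μ, e⟩ | ⟨a, b, μ, c, d, rfl⟩
    · exact Or.inl ⟨_, e1 _ _ e⟩
    · obtain ⟨a', b', e3⟩ := e1 _ μ ⟨a, b, rfl⟩
      exact Or.inr ⟨a', b', Units.map (θ : F →* F) μ, θ c, d + c * θ c, by rw [e3]; simp [add_assoc, add_self]⟩

theorem frob (D : SzD θ 1 x h s) (δ : F) : θ (θ δ) = δ ^ 2 := by
  by_cases h0 : δ = 0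
  · simp [h0]
  by_cases h1 : 1 + δ = 0
  · simp [← CharTwo.add_eq_zero.1 h1]
  have g0 : θ δ ≠ 0 := (map_ne_zero θ).2 h0
  have g1 : 1 + θ δ ≠ 0 := by simpa using (map_ne_zero θ).2 h1
  have g2 : θ (θ δ) ≠ 0 := (map_ne_zero θ).2 g0
  obtain ⟨m, hm, b, μ, c, _, hb, hc, e1, rfl⟩ := D.key g1 (θ δ / (1 + δ))
  obtain ⟨m', hm', b', μ', c', _, hb', hc', e2, rfl⟩ := D.key g0 (δ * θ δ ^ 2)
  let γ := Units.mk0 _ g0
  have e3 := D.baseI γ
  have e4 := D.baseI 1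
  simp only [D.inv, mul_one, add_self, Units.val_one, map_one, inv_one] at e3 e4
  have e5 : x (1 + θ δ) ((1 + θ δ) * θ (θ δ / (1 + δ))) = x γ 0 * x 1 0 := by
    rw [D.law, map_div₀, map_add, map_one, mul_div_cancel₀ _ g1, add_comm]; simp [γ]
  have e6 : x γ 0 * h (γ * γ) * x 0 1 = x (θ δ) (θ δ * θ (δ * θ δ ^ 2)) * h (γ * γ) := by
    rw [mul_assoc, D.act, ← mul_assoc, D.law]
    congr 2
    · simp [γ]
    · simp [γ]; ring
  have e7 : b * s * c = x 0 (γ * θ γ : F)⁻¹ * b' * s * (c' * h (γ * γ)⁻¹ * x 1 0) := by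
    calc _ = s * x γ 0 * s * (s * x 1 0 * s) := by simp only [← e1, e5, mul_assoc, D.ssm]
      _ = x 0 (γ * θ γ : F)⁻¹ * s * (x γ 0 * h (γ * γ) * x 0 1) * s * x 1 0 := by
          simp only [e3, e4, mul_assoc]
      _ = x 0 (γ * θ γ : F)⁻¹ * (s * x (θ δ) (θ δ * θ (δ * θ δ ^ 2)) * s) * h (γ * γ)⁻¹ * x 1 0 := by
          rw [e6]; simp only [mul_assoc, mul_right_inj]
          rw [← mul_assoc s, D.sh, inv_inv, mul_assoc]
      _ = _ := by simp only [e2, mul_assoc]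
  have e8 := congrArg Units.val (D.uniq hb hc (D.bmul (D.bx _ _) hb')
    (D.bmul (D.bmul hc' (D.bh _)) (D.bx _ _)) e7).2
  have e9 : (m' : F) = m * θ δ := by
    simp only [Units.val_mul, Units.val_inv_eq_inv_val, Units.val_one, γ, Units.val_mk0] at e8
    field_simp at e8
    have : (m' + m * θ δ) ^ 2 = 0 := by rw [CharTwo.add_sq, e8, mul_comm, mul_pow, add_self]
    exact CharTwo.add_eq_zero.1 (pow_eq_zero_iff two_ne_zero |>.1 this)
  rw [e9, map_mul, mul_mul_mul_comm, hm] at hm'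
  simp only [map_add, map_div₀, map_one, map_mul, map_pow] at hm'
  clear_value γ
  generalize θ (θ δ) = t at *
  generalize θ δ = g at *
  field_simp at hm'
  grind

end SzD

end Cfsg.Agent.EPH
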